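import Mathlib
import Cfsg.Prelude.Def_Solvable
import Cfsg.Prelude.Def_Transfer

/-!
Normal subgroups `N` in which every element outside the centre has a maximal centralizer:
coprime commuting elements, the one-prime case and the case of normal centralizers.
-/

set_option autoImplicit false

namespace CfsgLib.MaxCentralizer

open Subgroup
open scoped commutatorElement

universe u

variable {G : Type u} [Group G]

/-- The centralizer of one element. -/
abbrev cz (x : G) : Subgroup G := centralizer ({x} : Set G)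

theorem mem_cz {x g : G} : g ∈ cz x ↔ g * x = x * g := mem_centralizer_singleton_iff

theorem mem_cz_symm {x g : G} (h : g ∈ cz x) : x ∈ cz g := mem_cz.2 (mem_cz.1 h).symm

/-- `x` lies in `N` and is not central in it. -/
def NC (N : Subgroup G) (x : G) : Prop := x ∈ N ∧ x ∉ centralizer (N : Set G)

/-- The hypothesis. -/
def Hyp (N : Subgroup G) : Prop := ∀ x, NC N x → IsCoatom (cz x)

variable {N : Subgroup G}

theorem central_or_nc (x : G) (hx : x ∈ N) : x ∈ centralizer (N : Set G) ∨ NC N x :=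
  (em _).imp_right fun h => ⟨hx, h⟩

theorem le_cz_of_mem_centralizer {x : G} (hx : x ∈ centralizer (N : Set G)) : N ≤ cz x :=
  fun n hn => mem_cz.2 (mem_centralizer_iff.1 hx n hn)

theorem not_le_cz {x : G} (hx : NC N x) : ¬ N ≤ cz x := fun h =>
  hx.2 (mem_centralizer_iff.2 fun n hn => mem_cz.1 (h hn))

/-- A power of `x` that is still non-central has the same centralizer. -/
theorem cz_eq_of_mem_zpowers (h : Hyp N) {x y : G} (hx : NC N x) (hy : NC N y)
    (hyx : y ∈ zpowers x) : cz y = cz x := by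
  have hle : cz x ≤ cz y := fun g hg => by
    obtain ⟨i, rfl⟩ := mem_zpowers_iff.1 hyx
    exact mem_cz.2 ((show Commute g x from mem_cz.1 hg).zpow_right i).eq
  rcases hle.eq_or_lt with e | hlt
  · exact e.symm
  · exact absurd ((h x hx).2 _ hlt) (h y hy).1

variable [Finite G]

theorem mem_zpowers_mul_of_coprime {a b : G} (hc : Commute a b)
    (hcop : (orderOf a).Coprime (orderOf b)) : a ∈ zpowers (a * b) := by
  obtain ⟨m, hm⟩ := exists_pow_eq_self_of_coprime hcop.symm
  have h1 : (a * b) ^ orderOf b = a ^ orderOf b := by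
    rw [hc.mul_pow, pow_orderOf_eq_one, mul_one]
  have key : (a ^ orderOf b) ^ m ∈ zpowers (a * b) := by
    rw [← h1, ← pow_mul]
    exact Subgroup.pow_mem _ (mem_zpowers (a * b)) _
  rwa [hm] at key

/-- Commuting non-central elements of coprime orders have the same centralizer. -/
theorem cz_eq_of_coprime (h : Hyp N) {a b : G} (ha : NC N a) (hb : NC N b) (hc : Commute a b)
    (hcop : (orderOf a).Coprime (orderOf b)) : cz a = cz b := by
  have h1 := mem_zpowers_mul_of_coprime hc hcop
  have h2 : b ∈ zpowers (a * b) := by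
    rw [hc.eq]; exact mem_zpowers_mul_of_coprime hc.symm hcop.symm
  have hab : NC N (a * b) := ⟨mul_mem ha.1 hb.1, fun hh =>
    ha.2 (zpowers_le.2 hh h1)⟩
  rw [cz_eq_of_mem_zpowers h hab ha h1, cz_eq_of_mem_zpowers h hab hb h2]

/-- A central element of `N` of order prime to a non-central one is central in `G`. -/
theorem mem_center_of_coprime (h : Hyp N) {x z : G} (hx : NC N x) (hz : z ∈ N)
    (hzc : z ∈ centralizer (N : Set G)) (hcop : (orderOf x).Coprime (orderOf z)) :
    z ∈ center G := by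
  have hc : Commute x z := mem_centralizer_iff.1 hzc x hx.1
  have h1 := mem_zpowers_mul_of_coprime hc hcop
  have h2 : z ∈ zpowers (x * z) := by
    rw [hc.eq]; exact mem_zpowers_mul_of_coprime hc.symm hcop.symm
  have hxz : NC N (x * z) := ⟨mul_mem hx.1 hz, fun hh => hx.2 (zpowers_le.2 hh h1)⟩
  have hle : cz (x * z) ≤ cz z := fun g hg => by
    obtain ⟨i, hi⟩ := mem_zpowers_iff.1 h2
    rw [← hi]
    exact mem_cz.2 ((show Commute g (x * z) from mem_cz.1 hg).zpow_right i).eq
  have hlt : cz (x * z) < cz z := lt_of_le_of_ne hle fun e =>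
    not_le_cz hxz (e ▸ le_cz_of_mem_centralizer hzc)
  have htop := (h _ hxz).2 _ hlt
  rw [mem_center_iff]
  exact fun g => mem_cz.1 (htop ▸ mem_top g : g ∈ cz z)

/-- Induction over the prime power parts of an element. -/
theorem parts_induction (P : G → Prop)
    (hpp : ∀ (p : ℕ) (x : G), p.Prime → (∃ a, orderOf x = p ^ a) → P x)
    (hmul : ∀ a b : G, Commute a b → a ∈ zpowers (a * b) → b ∈ zpowers (a * b) →
      P a → P b → P (a * b)) : ∀ x : G, P x := by
  suffices ∀ (n : ℕ) (x : G), orderOf x ≤ n → P x from fun x => this _ x le_rfl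
  intro n
  induction n with
  | zero => intro x hx; exact absurd hx (Nat.not_le.2 (orderOf_pos x))
  | succ n ih =>
    intro x hx
    set o := orderOf x with ho
    by_cases h1 : o = 1
    · exact hpp 2 x Nat.prime_two ⟨0, by rw [← ho, h1, pow_zero]⟩
    obtain ⟨p, hp, hpd⟩ := Nat.exists_prime_and_dvd h1
    have ho0 : o ≠ 0 := (orderOf_pos x).ne'
    set A := p ^ o.factorization p with hA
    set B := o / A with hB
    have hAB : A * B = o := Nat.mul_div_cancel' (Nat.ordProj_dvd o p)
    by_cases hB1 : B = 1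
    · exact hpp p x hp ⟨o.factorization p, by rw [hB1, mul_one] at hAB; exact hAB.symm⟩
    have hcop : Nat.Coprime A B := Nat.Coprime.pow_left _ (Nat.coprime_ordCompl hp ho0)
    obtain ⟨u, v, huv⟩ : ∃ u v : ℤ, (u * A + v * B : ℤ) = 1 := by
      obtain ⟨u, v, h⟩ := (Nat.Coprime.isCoprime hcop : IsCoprime (A : ℤ) B)
      exact ⟨u, v, h⟩
    set a := x ^ ((v * B : ℤ)) with ha
    set b := x ^ ((u * A : ℤ)) with hb
    have hab : a * b = x := by rw [ha, hb, ← zpow_add, add_comm, huv, zpow_one]
    have hxA : ∀ k : ℤ, (x ^ (k * B : ℤ)) ^ A = 1 := fun k => by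
      rw [← zpow_natCast, ← zpow_mul, ← orderOf_dvd_iff_zpow_eq_one, ← ho, ← hAB]
      exact ⟨k, by push_cast; ring⟩
    have hxB : ∀ k : ℤ, (x ^ (k * A : ℤ)) ^ B = 1 := fun k => by
      rw [← zpow_natCast, ← zpow_mul, ← orderOf_dvd_iff_zpow_eq_one, ← ho, ← hAB]
      exact ⟨k, by push_cast; ring⟩
    have hA1 : 2 ≤ A := le_trans hp.two_le (Nat.le_of_dvd (pow_pos hp.pos _) (dvd_pow_self p
      (hp.factorization_pos_of_dvd ho0 hpd).ne'))
    have hB0 : B ≠ 0 := fun h => ho0 (by rw [← hAB, h, mul_zero])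
    have hB2 : 2 ≤ B := (Nat.two_le_iff B).2 ⟨hB0, hB1⟩
    have hA_lt : A < o := hAB ▸ lt_mul_of_one_lt_right (lt_of_lt_of_le two_pos hA1) hB2
    have hB_lt : B < o := hAB ▸ lt_mul_of_one_lt_left (lt_of_lt_of_le two_pos hB2) hA1
    have hoa : orderOf a ≤ A := orderOf_le_of_pow_eq_one (by omega) (hxA v)
    have hob : orderOf b ≤ B := orderOf_le_of_pow_eq_one (Nat.pos_of_ne_zero hB0) (hxB u)
    rw [← hab]
    refine hmul a b ?_ ?_ ?_ (ih a (by omega)) (ih b (by omega))
    · exact ((Commute.refl x).zpow_zpow _ _)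
    · rw [hab]; exact zpow_mem (mem_zpowers x) _
    · rw [hab]; exact zpow_mem (mem_zpowers x) _

/-- Every non-central element has a non-central prime power part. -/
theorem exists_part (h : Hyp N) : ∀ x, NC N x →
    ∃ (p : ℕ) (y : G), p.Prime ∧ (∃ a, orderOf y = p ^ a) ∧ y ∈ zpowers x ∧ NC N y ∧ cz y = cz x := by
  refine parts_induction _ (fun p x hp hx hn => ⟨p, x, hp, hx, mem_zpowers x, hn, rfl⟩) ?_
  intro a b hc ha hb iha ihb hn
  have haN : a ∈ N := zpowers_le.2 hn.1 ha
  have hbN : b ∈ N := zpowers_le.2 hn.1 hb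
  rcases central_or_nc a haN with hac | hac
  · rcases central_or_nc b hbN with hbc | hbc
    · exact absurd (mul_mem hac hbc) hn.2
    · obtain ⟨p, y, h1, h2, h3, h4, h5⟩ := ihb hbc
      have h3' : y ∈ zpowers (a * b) := (zpowers_le.2 hb) h3
      exact ⟨p, y, h1, h2, h3', h4, cz_eq_of_mem_zpowers h hn h4 h3'⟩
  · obtain ⟨p, y, h1, h2, h3, h4, h5⟩ := iha hac
    have h3' : y ∈ zpowers (a * b) := (zpowers_le.2 ha) h3
    exact ⟨p, y, h1, h2, h3', h4, cz_eq_of_mem_zpowers h hn h4 h3'⟩

/-- Non-central elements of prime power order. -/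
def NCp (N : Subgroup G) (p : ℕ) (x : G) : Prop := NC N x ∧ ∃ a, orderOf x = p ^ a

omit [Finite G] in
theorem coprime_of_ncp {p q : ℕ} (hp : p.Prime) (hq : q.Prime) (hpq : p ≠ q) {x y : G}
    (hx : NCp N p x) (hy : ∃ a, orderOf y = q ^ a) : (orderOf x).Coprime (orderOf y) := by
  obtain ⟨a, ha⟩ := hx.2
  obtain ⟨b, hb⟩ := hy
  rw [ha, hb]
  exact Nat.Coprime.pow a b ((Nat.coprime_primes hp hq).2 hpq)

/-- With two primes the centre of `N` is central in `G`. -/
theorem le_center_of_two (h : Hyp N) {p q : ℕ} (hp : p.Prime) (hq : q.Prime) (hpq : p ≠ q)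
    {x y : G} (hx : NCp N p x) (hy : NCp N q y) :
    ∀ z ∈ N, z ∈ centralizer (N : Set G) → z ∈ center G := by
  refine parts_induction _ (fun r z hr hz hzN hzc => ?_) ?_
  · by_cases hrp : r = p
    · refine mem_center_of_coprime h hy.1 hzN hzc (coprime_of_ncp hq hr ?_ hy hz)
      rw [hrp]; exact hpq.symm
    · exact mem_center_of_coprime h hx.1 hzN hzc (coprime_of_ncp hp hr (Ne.symm hrp) hx hz)
  · intro a b _ ha hb iha ihb hN hC
    exact mul_mem (iha (zpowers_le.2 hN ha) (zpowers_le.2 hC ha))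
      (ihb (zpowers_le.2 hN hb) (zpowers_le.2 hC hb))

omit [Finite G] in
theorem centralizer_normal [hN : N.Normal] : (centralizer (N : Set G)).Normal := inferInstance

omit [Finite G] in
theorem cz_conj (g x : G) : cz (g * x * g⁻¹) = (cz x).map (MulAut.conj g).toMonoidHom := by
  ext z
  rw [mem_map_equiv, MulAut.conj_symm_apply, mem_cz, mem_cz]
  constructor
  · intro hz
    calc g⁻¹ * z * g * x = g⁻¹ * (z * (g * x * g⁻¹)) * g := by group
      _ = g⁻¹ * ((g * x * g⁻¹) * z) * g := by rw [hz]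
      _ = _ := by group
  · intro hz
    calc z * (g * x * g⁻¹) = g * ((g⁻¹ * z * g) * x) * g⁻¹ := by group
      _ = g * (x * (g⁻¹ * z * g)) * g⁻¹ := by rw [hz]
      _ = _ := by group

omit [Finite G] in
theorem nc_conj [hN : N.Normal] {x : G} (hx : NC N x) (g : G) : NC N (g * x * g⁻¹) :=
  ⟨hN.conj_mem x hx.1 g, fun h => hx.2 (by
    simpa [mul_assoc] using (centralizer_normal (N := N)).conj_mem _ h g⁻¹)⟩

/-- The `N`-part of the centralizer. -/
abbrev cn (N : Subgroup G) (x : G) : Subgroup G := cz x ⊓ N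

omit [Finite G] in
theorem centralizer_inf_le_cn {x : G} (hx : x ∈ N) : centralizer (N : Set G) ⊓ N ≤ cn N x :=
  fun z hz => ⟨mem_cz.2 (mem_centralizer_iff.1 hz.1 x hx).symm, hz.2⟩

omit [Finite G] in
/-- If one centralizer is normal in a product decomposition, everything factors. -/
theorem mem_mul_of_top [hN : N.Normal] {H : Subgroup G} (hHn : H.Normal) (hHN : H ≤ N) {M : Subgroup G}
    (hM : IsCoatom M) (hH : ¬ H ≤ M) {n : G} (hn : n ∈ N) :
    ∃ a ∈ H, ∃ b ∈ M ⊓ N, n = a * b := by
  have htop : H ⊔ M = ⊤ := hM.2 _ (right_lt_sup.2 hH)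
  have : n ∈ H ⊔ M := htop ▸ mem_top n
  rw [← SetLike.mem_coe, normal_mul] at this
  obtain ⟨a, ha, b, hb, rfl⟩ := this
  exact ⟨a, ha, b, ⟨hb, (N.mul_mem_cancel_left (hHN ha)).1 hn⟩, rfl⟩

/-- The normal-centralizer case is impossible with two primes. -/
theorem exists_not_normal [hN : N.Normal] (h : Hyp N) {p q : ℕ} (hp : p.Prime) (hq : q.Prime)
    (hpq : p ≠ q) {x y : G} (hx : NCp N p x) (hy : NCp N q y) :
    ∃ w, NC N w ∧ ¬ (cn N w).Normal := by
  by_contra hall
  push Not at hall
  -- all commutators of `N` are central in `N`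
  have hcomm : ∀ a ∈ N, ∀ b ∈ N, ⁅a, b⁆ ∈ centralizer (N : Set G) := by
    intro a ha b hb
    rw [mem_centralizer_iff]
    intro w hw
    rcases central_or_nc w hw with hwc | hwn
    · have hmem : ⁅a, b⁆ ∈ N := by
        rw [commutatorElement_def]
        exact N.mul_mem (N.mul_mem (N.mul_mem ha hb) (N.inv_mem ha)) (N.inv_mem hb)
      exact (mem_centralizer_iff.1 hwc _ hmem).symm
    · have hCn := hall w hwn
      have key : ∀ a ∈ N, ∀ b ∈ N, ⁅a, b⁆ ∈ cn N w := by
        intro a ha b hb
        by_cases haC : a ∈ cn N w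
        · rw [commutatorElement_def, mul_assoc a b, mul_assoc]
          exact mul_mem haC (hCn.conj_mem _ (inv_mem haC) b)
        rcases central_or_nc a ha with hac | han
        · exact absurd (centralizer_inf_le_cn hwn.1 ⟨hac, ha⟩) haC
        have hA := hall a han
        have haA : a ∈ cn N a := ⟨mem_cz.2 rfl, ha⟩
        obtain ⟨u, hu, c, hc, rfl⟩ := mem_mul_of_top hA inf_le_right (h w hwn)
          (fun hle => haC ⟨hle haA, ha⟩) hb
        have hau : a * u = u * a := (mem_cz.1 hu.1).symm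
        have hc' : ⁅a, c⁆ ∈ cn N w := by
          rw [commutatorElement_def]
          exact mul_mem (hCn.conj_mem _ hc a) (inv_mem hc)
        have e : ⁅a, u * c⁆ = u * ⁅a, c⁆ * u⁻¹ := by
          simp only [commutatorElement_def, mul_inv_rev]
          calc a * (u * c) * a⁻¹ * (c⁻¹ * u⁻¹) = (a * u) * c * a⁻¹ * (c⁻¹ * u⁻¹) := by group
            _ = (u * a) * c * a⁻¹ * (c⁻¹ * u⁻¹) := by rw [hau]
            _ = _ := by group
        rw [e]
        exact hCn.conj_mem _ hc' u
      exact (mem_cz.1 (key a ha b hb).1).symm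
  -- coprime elements of `N` commute
  have hcop : ∀ a ∈ N, ∀ b ∈ N, (orderOf a).Coprime (orderOf b) → Commute a b := by
    intro a ha b hb hab
    set z := ⁅a, b⁆ with hz
    have hzc := hcomm a ha b hb
    have hza : Commute z a := (mem_centralizer_iff.1 hzc a ha).symm
    have hzb : Commute z b := (mem_centralizer_iff.1 hzc b hb).symm
    have hpow : ∀ k : ℕ, a ^ k * b = z ^ k * b * a ^ k := by
      intro k
      induction k with
      | zero => simp
      | succ k ih =>
        have e : a * b = z * b * a := by rw [hz, commutatorElement_def]; group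
        calc a ^ (k + 1) * b = a ^ k * (a * b) := by rw [pow_succ]; group
          _ = a ^ k * (z * b * a) := by rw [e]
          _ = (a ^ k * z) * b * a := by group
          _ = (z * a ^ k) * b * a := by rw [(hza.pow_right k).eq]
          _ = z * (a ^ k * b) * a := by group
          _ = z * (z ^ k * b * a ^ k) * a := by rw [ih]
          _ = _ := by rw [pow_succ', pow_succ]; group
    have hpow' : ∀ k : ℕ, b ^ k * a = z⁻¹ ^ k * a * b ^ k := by
      intro k
      induction k with
      | zero => simp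
      | succ k ih =>
        have e : b * a = z⁻¹ * a * b := by rw [hz, commutatorElement_def]; group
        calc b ^ (k + 1) * a = b ^ k * (b * a) := by rw [pow_succ]; group
          _ = b ^ k * (z⁻¹ * a * b) := by rw [e]
          _ = (b ^ k * z⁻¹) * a * b := by group
          _ = (z⁻¹ * b ^ k) * a * b := by rw [(hzb.inv_left.pow_right k).eq]
          _ = z⁻¹ * (b ^ k * a) * b := by group
          _ = z⁻¹ * (z⁻¹ ^ k * a * b ^ k) * b := by rw [ih]
          _ = _ := by rw [pow_succ', pow_succ]; group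
    have h1 := hpow (orderOf a)
    rw [pow_orderOf_eq_one, one_mul, mul_one] at h1
    have h2 := hpow' (orderOf b)
    rw [pow_orderOf_eq_one, one_mul, mul_one] at h2
    have h1' : z ^ orderOf a = 1 := by
      have := congrArg (· * b⁻¹) h1
      simpa using this.symm
    have h2' : z ^ orderOf b = 1 := by
      have := congrArg (· * a⁻¹) h2
      simpa using this.symm
    have h3 := pow_gcd_eq_one.2 ⟨h1', h2'⟩
    rw [hab.gcd_eq_one, pow_one] at h3
    exact commutatorElement_eq_one_iff_mul_comm.1 h3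
  -- so all centralizers coincide
  have hsame : ∀ (r : ℕ) (v : G), r.Prime → NCp N r v → cz v = cz x := by
    intro r v hr hv
    have hxy : cz x = cz y := cz_eq_of_coprime h hx.1 hy.1
      (hcop x hx.1.1 y hy.1.1 (coprime_of_ncp hp hq hpq hx hy.2)) (coprime_of_ncp hp hq hpq hx hy.2)
    by_cases hrp : r = p
    · rw [hxy]
      have hrq : r ≠ q := hrp ▸ hpq
      exact cz_eq_of_coprime h hv.1 hy.1
        (hcop v hv.1.1 y hy.1.1 (coprime_of_ncp hr hq hrq hv hy.2)) (coprime_of_ncp hr hq hrq hv hy.2)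
    · exact cz_eq_of_coprime h hv.1 hx.1
        (hcop v hv.1.1 x hx.1.1 (coprime_of_ncp hr hp hrp hv hx.2)) (coprime_of_ncp hr hp hrp hv hx.2)
  apply not_le_cz hx.1
  intro n hn
  rcases central_or_nc n hn with hc | hnc
  · exact (centralizer_inf_le_cn hx.1.1 ⟨hc, hn⟩).1
  · obtain ⟨r, v, hr, hv, -, hvn, hcv⟩ := exists_part h n hnc
    rw [← hsame r v hr ⟨hvn, hv⟩, hcv]
    exact mem_cz.2 rfl

/-- One prime: the central quotient is elementary abelian. -/
theorem elementary_of_one_prime [hN : N.Normal] (h : Hyp N) {p : ℕ} (hp : p.Prime)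
    (hone : ∀ (r : ℕ) (v : G), r.Prime → NCp N r v → r = p) :
    (∀ a ∈ N, ∀ b ∈ N, ⁅a, b⁆ ∈ centralizer (N : Set G)) ∧
      ∀ a ∈ N, a ^ p ∈ centralizer (N : Set G) := by
  have := Fact.mk hp
  -- the quotient by the centre is a `p`-group
  have hpow : ∀ n ∈ N, ∃ k, n ^ p ^ k ∈ centralizer (N : Set G) := by
    refine parts_induction _ (fun r n hr hn hnN => ?_) ?_
    · rcases central_or_nc n hnN with hc | hnc
      · exact ⟨0, by simpa using hc⟩
      · obtain ⟨a, ha⟩ := hn
        have hrp := hone r n hr ⟨hnc, a, ha⟩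
        exact ⟨a, by rw [← hrp, ← ha, pow_orderOf_eq_one]; exact one_mem _⟩
    · intro a b hc ha hb iha ihb hN'
      obtain ⟨i, hi⟩ := iha (zpowers_le.2 hN' ha)
      obtain ⟨j, hj⟩ := ihb (zpowers_le.2 hN' hb)
      refine ⟨i + j, ?_⟩
      rw [hc.mul_pow]
      refine mul_mem ?_ ?_
      · rw [pow_add, pow_mul]; exact pow_mem hi _
      · rw [pow_add, mul_comm, pow_mul]; exact pow_mem hj _
  have hZ : ∀ z : N, z ∈ center N ↔ (z : G) ∈ centralizer (N : Set G) := by
    intro z
    rw [mem_center_iff, mem_centralizer_iff]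
    exact ⟨fun hz n hn => congrArg Subtype.val (hz ⟨n, hn⟩), fun hz n => Subtype.ext (hz n n.2)⟩
  have hquot : IsPGroup p (N ⧸ center N) := by
    intro q
    obtain ⟨n, rfl⟩ := QuotientGroup.mk_surjective q
    obtain ⟨k, hk⟩ := hpow n n.2
    refine ⟨k, ?_⟩
    rw [← QuotientGroup.mk_pow, QuotientGroup.eq_one_iff, hZ]
    simpa using hk
  have : Group.IsNilpotent N := Group.of_quotient_center_nilpotent hquot.isNilpotent
  -- the normal Sylow subgroup
  let S : Sylow p N := default
  have hSn : (S : Subgroup N).Normal := inferInstance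
  have hSc : (S : Subgroup N).Characteristic := Sylow.characteristic_of_normal S hSn
  let P : Subgroup G := (S : Subgroup N).map N.subtype
  have hPn : P.Normal := ConjAct.normal_of_characteristic_of_normal
  have hPN : P ≤ N := map_subtype_le _
  have hPp : IsPGroup p P := S.isPGroup'.map _
  have hmemP : ∀ v ∈ N, (∃ a, orderOf v = p ^ a) → v ∈ P := by
    intro v hv ⟨a, ha⟩
    have hpg : IsPGroup p (zpowers (⟨v, hv⟩ : N)) := IsPGroup.of_card (n := a) (by
      rw [Nat.card_zpowers, Subgroup.orderOf_mk, ha])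
    obtain ⟨T, hT⟩ := hpg.exists_le_sylow
    have hTS : T = S := by
      have := Sylow.unique_of_normal S hSn
      exact Subsingleton.elim _ _
    exact ⟨⟨v, hv⟩, hTS ▸ hT (mem_zpowers _), rfl⟩
  -- every maximal subgroup contains the derived subgroup and the `p`-th powers of `P`
  have hmax : ∀ M : Subgroup G, IsCoatom M → (∀ a ∈ P, ∀ b ∈ P, ⁅a, b⁆ ∈ M) ∧ ∀ a ∈ P, a ^ p ∈ M := by
    intro M hM
    by_cases hPM : P ≤ M
    · exact ⟨fun a ha b hb => by
        rw [commutatorElement_def]
        exact M.mul_mem (M.mul_mem (M.mul_mem (hPM ha) (hPM hb)) (M.inv_mem (hPM ha)))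
          (M.inv_mem (hPM hb)), fun a ha => M.pow_mem (hPM ha) p⟩
    set Φ : Subgroup P := closure ({c | ∃ a b : P, c = ⁅a, b⁆} ∪ {c | ∃ a : P, c = a ^ p}) with hΦ
    have hΦn : Φ.Normal := by
      refine ⟨fun c hc g => ?_⟩
      have hle : Φ ≤ Φ.comap (MulAut.conj g).toMonoidHom := by
        rw [hΦ, closure_le]
        rintro c (⟨a, b, rfl⟩ | ⟨a, rfl⟩)
        · refine subset_closure (Or.inl ⟨MulAut.conj g a, MulAut.conj g b, ?_⟩)
          exact map_commutatorElement _ a b
        · exact subset_closure (Or.inr ⟨MulAut.conj g a, map_pow _ a p⟩)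
      exact hle hc
    by_contra hcon
    have hΦM : ¬ Φ.map P.subtype ≤ M := fun hle => hcon ⟨fun a ha b hb =>
      hle ⟨⁅⟨a, ha⟩, ⟨b, hb⟩⁆, subset_closure (Or.inl ⟨_, _, rfl⟩), rfl⟩,
      fun a ha => hle ⟨⟨a, ha⟩ ^ p, subset_closure (Or.inr ⟨_, rfl⟩), rfl⟩⟩
    have hΦG : (Φ.map P.subtype).Normal := by
      refine ⟨fun c hc g => ?_⟩
      let f : P →* P := ((MulAut.conjNormal g : MulAut P)).toMonoidHom
      have hle : Φ ≤ Φ.comap f := by
        rw [hΦ, closure_le]
        rintro c (⟨a, b, rfl⟩ | ⟨a, rfl⟩)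
        · exact subset_closure (Or.inl ⟨f a, f b, map_commutatorElement f a b⟩)
        · exact subset_closure (Or.inr ⟨f a, map_pow f a p⟩)
      obtain ⟨c', hc', rfl⟩ := hc
      exact ⟨f c', hle hc', MulAut.conjNormal_apply g c'⟩
    -- hence `P = Φ (P ∩ M)`, and `P ∩ M` is everything by the Burnside basis theorem
    have hsup : Φ ⊔ M.subgroupOf P = ⊤ := by
      rw [eq_top_iff]
      intro a _
      obtain ⟨c, ⟨c', hc', hcc⟩, m, hm, e⟩ :=
        mem_mul_of_top (N := P) hΦG (map_subtype_le _) hM hΦM a.2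
      have : a = c' * ⟨m, hm.2⟩ := Subtype.ext (by rw [e, ← hcc]; rfl)
      rw [this]
      exact mul_mem_sup hc' (mem_subgroupOf.2 hm.1)
    have hPp' := hPp.isNilpotent
    have hΦfr : Φ ≤ frattini P := by
      rw [hΦ, closure_le]
      have key : ∀ K : Subgroup P, IsCoatom K → (∀ a b : P, ⁅a, b⁆ ∈ K) ∧ ∀ a : P, a ^ p ∈ K := by
        intro K hK
        have hKn : K.Normal := Subgroup.NormalizerCondition.normal_of_coatom K
          Group.normalizerCondition_of_isNilpotent hK
        have hidx : Nat.card (P ⧸ K) = p := by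
          obtain ⟨k, hk⟩ := (hPp.to_quotient K).exists_card_eq
          have hk0 : k ≠ 0 := fun h0 => hK.1 (index_eq_one.1 (by
            rw [index_eq_card, hk, h0, pow_zero]))
          obtain ⟨t, ht⟩ := exists_prime_orderOf_dvd_card' (G := P ⧸ K) p (hk ▸ dvd_pow_self p hk0)
          have hT : K < (zpowers t).comap (QuotientGroup.mk' K) := by
            refine lt_of_le_of_ne (fun z hz => ?_) fun e => ?_
            · show (z : P ⧸ K) ∈ zpowers t
              rw [(QuotientGroup.eq_one_iff z).2 hz]; exact one_mem _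
            · obtain ⟨z, rfl⟩ := QuotientGroup.mk_surjective t
              have : z ∈ K := e.symm ▸ mem_zpowers (z : P ⧸ K)
              rw [(QuotientGroup.eq_one_iff z).2 this, orderOf_one] at ht
              exact hp.one_lt.ne ht
          have htop := hK.2 _ hT
          have : zpowers t = ⊤ := by
            rw [← map_comap_eq_self_of_surjective (QuotientGroup.mk'_surjective K) (zpowers t), htop,
              map_top_of_surjective _ (QuotientGroup.mk'_surjective K)]
          rw [← card_top, ← this, Nat.card_zpowers, ht]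
        refine ⟨fun a b => ?_, fun a => ?_⟩
        · rw [← QuotientGroup.eq_one_iff]
          show QuotientGroup.mk' K ⁅a, b⁆ = 1
          have := isCyclic_of_prime_card hidx
          have hab : IsMulCommutative (P ⧸ K) := IsCyclic.isMulCommutative
          rw [map_commutatorElement, commutatorElement_eq_one_iff_mul_comm]
          exact hab.is_comm.comm _ _
        · rw [← QuotientGroup.eq_one_iff, QuotientGroup.mk_pow, ← hidx]
          exact pow_card_eq_one'
      intro c hc
      rw [SetLike.mem_coe, frattini, Order.radical]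
      simp only [mem_iInf]
      intro K hK
      rcases hc with ⟨a, b, rfl⟩ | ⟨a, rfl⟩
      · exact (key K hK).1 a b
      · exact (key K hK).2 a
    have htop : M.subgroupOf P = ⊤ := frattini_nongenerating (top_le_iff.1 (hsup ▸
      sup_le (le_sup_of_le_right hΦfr) le_sup_left))
    exact hPM (subgroupOf_eq_top.1 htop)
  -- transfer to `N`
  have hgen : ∀ w, NC N w → ∀ t, (∀ M : Subgroup G, IsCoatom M → t ∈ M) → t * w = w * t :=
    fun w hw t ht => mem_cz.1 (ht _ (h w hw))
  have hPc : ∀ t ∈ N, (∀ M : Subgroup G, IsCoatom M → t ∈ M) → t ∈ centralizer (N : Set G) := by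
    intro t htN ht
    rw [mem_centralizer_iff]
    intro w hw
    rcases central_or_nc w hw with hc | hnc
    · exact (mem_centralizer_iff.1 hc t htN).symm
    · exact (hgen w hnc t ht).symm
  -- every element of `N` is congruent to one of `P`
  have hdec : ∀ n ∈ N, ∃ u ∈ P, ∃ z ∈ centralizer (N : Set G) ⊓ N, n = u * z := by
    refine parts_induction _ (fun r n hr hn hnN => ?_) ?_
    · rcases central_or_nc n hnN with hc | hnc
      · exact ⟨1, one_mem _, n, ⟨hc, hnN⟩, (one_mul n).symm⟩
      · obtain ⟨a, ha⟩ := hn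
        have hrp := hone r n hr ⟨hnc, a, ha⟩
        exact ⟨n, hmemP n hnN ⟨a, by rw [ha, hrp]⟩, 1, one_mem _, (mul_one n).symm⟩
    · intro a b hc ha hb iha ihb hN'
      obtain ⟨u, hu, z, hz, rfl⟩ := iha (zpowers_le.2 hN' ha)
      obtain ⟨u', hu', z', hz', rfl⟩ := ihb (zpowers_le.2 hN' hb)
      refine ⟨u * u', mul_mem hu hu', z * z', mul_mem hz hz', ?_⟩
      have h1 : z * u' = u' * z := (mem_centralizer_iff.1 hz.1 u' (hPN hu')).symm
      calc u * z * (u' * z') = u * (z * u') * z' := by group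
        _ = u * (u' * z) * z' := by rw [h1]
        _ = _ := by group
  constructor
  · intro a ha b hb
    obtain ⟨u, hu, z, hz, rfl⟩ := hdec a ha
    obtain ⟨u', hu', z', hz', rfl⟩ := hdec b hb
    have e : ⁅u * z, u' * z'⁆ = ⁅u, u'⁆ := by
      have h1 : ∀ n ∈ N, Commute z n := fun n hn => (mem_centralizer_iff.1 hz.1 n hn).symm
      have h2 : ∀ n ∈ N, Commute z' n := fun n hn => (mem_centralizer_iff.1 hz'.1 n hn).symm
      simp only [commutatorElement_def, mul_inv_rev]
      calc u * z * (u' * z') * (z⁻¹ * u⁻¹) * (z'⁻¹ * u'⁻¹)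
          = u * (z * (u' * z')) * z⁻¹ * u⁻¹ * z'⁻¹ * u'⁻¹ := by group
        _ = u * ((u' * z') * z) * z⁻¹ * u⁻¹ * z'⁻¹ * u'⁻¹ := by
          rw [(h1 _ (N.mul_mem (hPN hu') hz'.2)).eq]
        _ = u * u' * (z' * u⁻¹) * z'⁻¹ * u'⁻¹ := by group
        _ = u * u' * (u⁻¹ * z') * z'⁻¹ * u'⁻¹ := by rw [(h2 _ (N.inv_mem (hPN hu))).eq]
        _ = _ := by group
    rw [e]
    refine hPc _ ?_ fun M hM => (hmax M hM).1 u hu u' hu'
    rw [commutatorElement_def]
    exact N.mul_mem (N.mul_mem (N.mul_mem (hPN hu) (hPN hu')) (N.inv_mem (hPN hu))) (N.inv_mem (hPN hu'))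
  · intro a ha
    obtain ⟨u, hu, z, hz, rfl⟩ := hdec a ha
    rw [(show Commute u z from mem_centralizer_iff.1 hz.1 u (hPN hu)).mul_pow]
    exact mul_mem (hPc _ (pow_mem (hPN hu) p) fun M hM => (hmax M hM).2 u hu) (pow_mem hz.1 p)

end CfsgLib.MaxCentralizer
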