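import Cfsg.Agent.Lib.Struct77.MaxCentralizer.Basic
import Cfsg.Agent.Lib.Solvable.CoprimeGeneration
import Cfsg.Agent.Lib.Structure.HughesThompson

/-!
With two primes some centralizer meets `N` in an abelian self-normalizing TI subgroup.
-/

set_option autoImplicit false

namespace CfsgLib.MaxCentralizer

open Subgroup
open scoped commutatorElement

universe u

variable {G : Type u} [Group G] [Finite G] {N : Subgroup G}

/-- The centralizer of `x` meets `N` in a non-normal abelian subgroup with constant centralizers. -/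
def Abel (N : Subgroup G) (x : G) : Prop :=
  NC N x ∧ ¬ (cn N x).Normal ∧ ∀ w ∈ cn N x, NC N w → cz w = cz x

omit [Finite G] in
theorem cn_le_normalizer [hN : N.Normal] (x : G) : cz x ≤ normalizer (cn N x : Set G) := by
  intro g hg
  rw [mem_normalizer_iff]
  intro z
  constructor
  · intro hz
    exact ⟨(cz x).mul_mem ((cz x).mul_mem hg hz.1) ((cz x).inv_mem hg), hN.conj_mem z hz.2 g⟩
  · intro hz
    refine ⟨?_, ?_⟩
    · simpa [mul_assoc] using (cz x).mul_mem ((cz x).mul_mem ((cz x).inv_mem hg) hz.1) hg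
    · simpa [mul_assoc] using hN.conj_mem _ hz.2 g⁻¹

omit [Finite G] in
theorem normalizer_eq_cz (h : Hyp N) {x : G} (hx : NC N x) {H : Subgroup G} (hH : ¬ H.Normal)
    (hle : cz x ≤ normalizer (H : Set G)) : normalizer (H : Set G) = cz x := by
  rcases hle.eq_or_lt with e | hlt
  · exact e.symm
  · exact absurd (normalizer_eq_top_iff.1 ((h x hx).2 _ hlt)) hH

variable [hN : N.Normal]

omit [Finite G] in
theorem mem_centralizer_normal {z : G} (hz : z ∈ centralizer (N : Set G)) (g : G) :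
    g * z * g⁻¹ ∈ centralizer (N : Set G) :=
  (centralizer_normal (N := N)).conj_mem z hz g

/-- A non-abelian type: all non-central prime power elements belong to one prime. -/
theorem exists_type (h : Hyp N) {x : G} (hx : NC N x) (hnn : ¬ (cn N x).Normal)
    (hna : ¬ Abel N x) :
    ∃ p, p.Prime ∧ (∃ x₀, NCp N p x₀ ∧ cz x₀ = cz x) ∧
      ∀ r v, r.Prime → v ∈ cn N x → NCp N r v → r = p := by
  obtain ⟨p, x₀, hp, hx₀, hx₀x, hx₀n, hcz⟩ := exists_part h x hx
  refine ⟨p, hp, ⟨x₀, ⟨hx₀n, hx₀⟩, hcz⟩, fun q y hq hy hyq => ?_⟩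
  by_contra hqp
  have hyx : cz y = cz x := by
    rw [← hcz]
    refine cz_eq_of_coprime h hyq.1 hx₀n (mem_cz.1 (hcz.symm ▸ hy.1)) ?_
    exact coprime_of_ncp hq hp hqp hyq hx₀
  refine hna ⟨hx, hnn, fun w hw hwn => ?_⟩
  obtain ⟨r, w₀, hr, hw₀, hw₀w, hw₀n, hw₀c⟩ := exists_part h w hwn
  rw [← hw₀c]
  have hw₀x : w₀ ∈ cz x := (zpowers_le.2 hw.1) hw₀w
  by_cases hrp : r = p
  · rw [← hyx]
    refine cz_eq_of_coprime h hw₀n hyq.1 (mem_cz.1 (hyx.symm ▸ hw₀x)) ?_
    exact coprime_of_ncp hr hq (fun e => hqp (e ▸ hrp)) ⟨hw₀n, hw₀⟩ hyq.2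
  · rw [← hcz]
    refine cz_eq_of_coprime h hw₀n hx₀n (mem_cz.1 (hcz.symm ▸ hw₀x)) ?_
    exact coprime_of_ncp hr hp hrp ⟨hw₀n, hw₀⟩ hx₀

/-- In a subgroup of one type every element has a `p`-power in the centre of `N`. -/
theorem pow_mem_of_type (h : Hyp N) {x : G} {p : ℕ}
    (hT : ∀ r v, r.Prime → v ∈ cn N x → NCp N r v → r = p) :
    ∀ v, v ∈ cn N x → ∃ k, v ^ p ^ k ∈ centralizer (N : Set G) := by
  refine parts_induction _ (fun r v hr hv hvC => ?_) ?_
  · rcases central_or_nc v hvC.2 with hc | hnc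
    · exact ⟨0, by simpa using hc⟩
    · obtain ⟨a, ha⟩ := hv
      have hrp := hT r v hr hvC ⟨hnc, a, ha⟩
      exact ⟨a, by rw [← hrp, ← ha, pow_orderOf_eq_one]; exact one_mem _⟩
  · intro a b hc ha hb iha ihb hC
    obtain ⟨i, hi⟩ := iha (zpowers_le.2 hC ha)
    obtain ⟨j, hj⟩ := ihb (zpowers_le.2 hC hb)
    refine ⟨i + j, ?_⟩
    rw [hc.mul_pow]
    refine mul_mem ?_ ?_
    · rw [pow_add, pow_mul]; exact pow_mem hi _
    · rw [pow_add, mul_comm, pow_mul]; exact pow_mem hj _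

omit [Finite G] hN in
theorem mk_mem_center {z : N} : z ∈ center N ↔ (z : G) ∈ centralizer (N : Set G) := by
  rw [mem_center_iff, mem_centralizer_iff]
  exact ⟨fun hz n hn => congrArg Subtype.val (hz ⟨n, hn⟩), fun hz n => Subtype.ext (hz n n.2)⟩

/-- A normal centralizer of an element of another prime forces the abelian type. -/
theorem abel_of_normal (h : Hyp N) {x : G} (hx : NC N x) (hnn : ¬ (cn N x).Normal) {p : ℕ}
    (hp : p.Prime) (hT : ∀ r v, r.Prime → v ∈ cn N x → NCp N r v → r = p)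
    {q : ℕ} (hq : q.Prime) (hqp : q ≠ p) {b : G} (hb : NCp N q b) (hL : (cn N b).Normal) :
    Abel N x := by
  classical
  have := Fact.mk hp
  have := Fact.mk hq
  set L := cn N b with hLdef
  set C := cn N x with hCdef
  let B : Subgroup G :=
    { carrier := {w | w ∈ L ∧ w ∈ centralizer (L : Set G) ∧ ∃ j, w ^ q ^ j = 1}
      one_mem' := ⟨one_mem _, one_mem _, 0, one_pow _⟩
      mul_mem' := fun {u v} hu hv => ⟨mul_mem hu.1 hv.1, mul_mem hu.2.1 hv.2.1, by
        obtain ⟨i, hi⟩ := hu.2.2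
        obtain ⟨j, hj⟩ := hv.2.2
        refine ⟨i + j, ?_⟩
        rw [(show Commute u v from (mem_centralizer_iff.1 hv.2.1 u hu.1)).mul_pow]
        conv_lhs => rw [pow_add, pow_mul, hi, one_pow, one_mul, mul_comm, pow_mul, hj, one_pow]⟩
      inv_mem' := fun {u} hu => ⟨inv_mem hu.1, inv_mem hu.2.1, by
        obtain ⟨i, hi⟩ := hu.2.2
        exact ⟨i, by rw [inv_pow, hi, inv_one]⟩⟩ }
  have hbB : b ∈ B := by
    refine ⟨⟨mem_cz.2 rfl, hb.1.1⟩, mem_centralizer_iff.2 fun l hl => mem_cz.1 hl.1, ?_⟩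
    obtain ⟨a, ha⟩ := hb.2
    exact ⟨a, by rw [← ha, pow_orderOf_eq_one]⟩
  have hBN : B ≤ N := fun w hw => hw.1.2
  have hBn : B.Normal := ⟨fun w hw g => by
    refine ⟨hL.conj_mem w hw.1 g, (inferInstance : (centralizer (L : Set G)).Normal).conj_mem w hw.2.1 g, ?_⟩
    obtain ⟨i, hi⟩ := hw.2.2
    exact ⟨i, by rw [conj_pow, hi, mul_one, mul_inv_cancel]⟩⟩
  have hbx : b ∉ cz x := fun hh => hqp (hT q b hq ⟨hh, hb.1.1⟩ hb)
  have hdec : ∀ n ∈ N, ∃ a ∈ B, ∃ c ∈ C, n = a * c := fun n hn =>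
    mem_mul_of_top hBn hBN (h x hx) (fun hle => hbx (hle hbB)) hn
  have hCL : ∀ w ∈ C, w ∈ L → ¬ NC N w := by
    intro w hwC hwL hwn
    obtain ⟨r, w₀, hr, hw₀, hw₀w, hw₀n, hw₀c⟩ := exists_part h w hwn
    have hw₀C : w₀ ∈ C := zpowers_le.2 hwC hw₀w
    have hw₀L : w₀ ∈ L := zpowers_le.2 hwL hw₀w
    obtain rfl := hT r w₀ hr hw₀C ⟨hw₀n, hw₀⟩
    have he : cz w₀ = cz b := cz_eq_of_coprime h hw₀n hb.1 (mem_cz.1 hw₀L.1)
      (coprime_of_ncp hr hq (Ne.symm hqp) ⟨hw₀n, hw₀⟩ hb.2)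
    exact hbx (mem_cz_symm (he ▸ mem_cz_symm hw₀C.1))
  have hfpf : ∀ w ∈ C, NC N w → ∀ a ∈ B, Commute w a → ¬ NC N a := by
    intro w hwC hwn a ha hwa han
    obtain ⟨r, w₀, hr, hw₀, hw₀w, hw₀n, hw₀c⟩ := exists_part h w hwn
    have hw₀C : w₀ ∈ C := zpowers_le.2 hwC hw₀w
    obtain rfl := hT r w₀ hr hw₀C ⟨hw₀n, hw₀⟩
    obtain ⟨i, rfl⟩ := mem_zpowers_iff.1 hw₀w
    obtain ⟨j, hj⟩ := ha.2.2
    obtain ⟨k, -, hk⟩ := (Nat.dvd_prime_pow hq).1 (orderOf_dvd_of_pow_eq_one hj)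
    have he : cz (w ^ i) = cz a := cz_eq_of_coprime h hw₀n han (hwa.zpow_left i)
      (coprime_of_ncp hr hq (Ne.symm hqp) ⟨hw₀n, hw₀⟩ ⟨k, hk⟩)
    refine hCL _ hw₀C ⟨mem_cz_symm (he ▸ mem_cz.2 ?_), hw₀C.2⟩ hw₀n
    exact mem_centralizer_iff.1 ha.2.1 b ⟨mem_cz.2 rfl, hb.1.1⟩
  -- `C` modulo the centre is a `p`-group
  let Q := N ⧸ center N
  let π : N →* Q := QuotientGroup.mk' (center N)
  have hπ1 : ∀ n : N, π n = 1 ↔ (n : G) ∈ centralizer (N : Set G) := fun n =>
    (QuotientGroup.eq_one_iff n).trans mk_mem_center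
  set Cq : Subgroup Q := (C.subgroupOf N).map π with hCq
  set Bq : Subgroup Q := (B.subgroupOf N).map π with hBq
  have hCqp : IsPGroup p Cq := by
    rintro ⟨_, c, hc, rfl⟩
    obtain ⟨k, hk⟩ := pow_mem_of_type h hT c hc
    exact ⟨k, Subtype.ext ((map_pow π c _).symm.trans ((hπ1 _).2 (by simpa using hk)))⟩
  have hBqp : IsPGroup q Bq := by
    rintro ⟨_, a, ha, rfl⟩
    obtain ⟨j, hj⟩ := (mem_subgroupOf.1 ha).2.2
    exact ⟨j, Subtype.ext ((map_pow π a _).symm.trans ((hπ1 _).2 (by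
      rw [SubmonoidClass.coe_pow, hj]; exact one_mem _)))⟩
  -- `N / L` is abelian
  have hab : ∀ c ∈ C, ∀ c' ∈ C, ⁅c, c'⁆ ∈ centralizer (N : Set G) := by
    intro c hc c' hc'
    have hcc : ⁅c, c'⁆ ∈ C := by
      rw [commutatorElement_def]
      exact C.mul_mem (C.mul_mem (C.mul_mem hc hc') (C.inv_mem hc)) (C.inv_mem hc')
    suffices ⁅c, c'⁆ ∈ L by
      rcases central_or_nc _ hcc.2 with h1 | h1
      · exact h1
      · exact absurd h1 (hCL _ hcc this)
    set H := L ⊔ ⁅N, N⁆ with hH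
    have hcH : ⁅c, c'⁆ ∈ H := mem_sup_right (commutator_mem_commutator hc.2 hc'.2)
    have hHN : H ≤ N := sup_le inf_le_right (commutator_le_self N)
    by_cases hHb : H ≤ cz b
    · exact ⟨hHb hcH, hcc.2⟩
    exfalso
    have : (L.subgroupOf N).Normal := inferInstance
    have hfull : ∀ n ∈ N, n ∈ H := by
      intro n hn
      obtain ⟨a, ha, m, hm, rfl⟩ := mem_mul_of_top (H := H) inferInstance hHN (h b hb.1) hHb hn
      exact H.mul_mem ha (mem_sup_left hm)
    let f := QuotientGroup.mk' (L.subgroupOf N)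
    have hperf : commutator (N ⧸ L.subgroupOf N) = ⊤ := by
      rw [eq_top_iff]
      intro z _
      obtain ⟨n, rfl⟩ := QuotientGroup.mk'_surjective _ z
      have hle : H ≤ ((commutator (N ⧸ L.subgroupOf N)).comap f).map N.subtype := by
        refine sup_le (fun l hl => mem_map.2 ⟨(⟨l, hl.2⟩ : N), mem_comap.2 ?_, rfl⟩) ?_
        · show f ⟨l, hl.2⟩ ∈ commutator (N ⧸ L.subgroupOf N)
          rw [show f ⟨l, hl.2⟩ = 1 from (QuotientGroup.eq_one_iff _).2 hl]
          exact one_mem _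
        · rw [commutator_le]
          intro u hu v hv
          refine mem_map.2 ⟨⁅(⟨u, hu⟩ : N), (⟨v, hv⟩ : N)⁆, mem_comap.2 ?_, map_commutatorElement N.subtype _ _⟩
          rw [map_commutatorElement]
          exact commutator_mem_commutator (mem_top _) (mem_top _)
      obtain ⟨n', hn', hnn⟩ := hle (hfull n n.2)
      rw [show n = n' from Subtype.ext hnn.symm]
      exact hn'
    have hpg : IsPGroup p (N ⧸ L.subgroupOf N) := by
      intro z
      obtain ⟨n, rfl⟩ := QuotientGroup.mk'_surjective _ z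
      obtain ⟨a, ha, c, hc, hn⟩ := hdec n n.2
      obtain ⟨k, hk⟩ := pow_mem_of_type h hT c hc
      refine ⟨k, ?_⟩
      have h1 : f n = f ⟨c, hc.2⟩ := by
        have e : n = ⟨a, hBN ha⟩ * ⟨c, hc.2⟩ := Subtype.ext hn
        rw [e, map_mul, show f ⟨a, hBN ha⟩ = 1 from (QuotientGroup.eq_one_iff _).2 ha.1, one_mul]
      show (f n) ^ p ^ k = 1
      rw [h1, ← map_pow]
      exact (QuotientGroup.eq_one_iff _).2 (centralizer_inf_le_cn hb.1.1
        ⟨by simpa using hk, pow_mem hc.2 _⟩)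
    rcases subsingleton_or_nontrivial (N ⧸ L.subgroupOf N) with hs | hs
    · obtain ⟨r, x₀, hr, hx₀, hx₀x, hx₀n, hx₀c⟩ := exists_part h x hx
      have hxC : x₀ ∈ C := zpowers_le.2 (⟨mem_cz.2 rfl, hx.1⟩ : x ∈ C) hx₀x
      refine hCL x₀ hxC ?_ hx₀n
      exact (QuotientGroup.eq_one_iff (⟨x₀, hxC.2⟩ : N)).1 (hs.elim _ _)
    · have := hpg.isNilpotent
      exact IsSolvable.commutator_lt_top_of_nontrivial (N ⧸ L.subgroupOf N) |>.ne hperf
  have hCqab : IsMulCommutative Cq := by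
    refine ⟨⟨?_⟩⟩
    rintro ⟨_, c, hc, rfl⟩ ⟨_, c', hc', rfl⟩
    refine Subtype.ext ?_
    show π c * π c' = π c' * π c
    rw [← commutatorElement_eq_one_iff_mul_comm, ← map_commutatorElement, hπ1]
    have := hab _ hc _ hc'
    rwa [← map_commutatorElement N.subtype] at this
  have hcyc : IsCyclic Cq := by
    by_contra hnc
    have hBqn : Bq.Normal := (inferInstance : (B.subgroupOf N).Normal).map π (QuotientGroup.mk'_surjective _)
    have hcop : (Nat.card Cq).Coprime (Nat.card Bq) := by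
      obtain ⟨i, hi⟩ := hCqp.exists_card_eq
      obtain ⟨j, hj⟩ := hBqp.exists_card_eq
      rw [hi, hj]
      exact Nat.Coprime.pow i j ((Nat.coprime_primes hp hq).2 (Ne.symm hqp))
    have hsup := CfsgLib.CoprimeGeneration.iSup_centralizer_eq Cq Bq hnc
      (by rw [normalizer_eq_top_iff.2 hBqn]; exact le_top) hcop
    have hbot : Bq = ⊥ := by
      rw [← hsup, eq_bot_iff]
      refine iSup₂_le fun t ht => ?_
      rintro u ⟨hu, hut⟩
      obtain ⟨⟨c, hc, rfl⟩, hc1⟩ := ht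
      obtain ⟨a, ha, rfl⟩ := hu
      have hcn : NC N (c : G) := ⟨c.2, fun hh => hc1 ((hπ1 c).2 hh)⟩
      have haB : (a : G) ∈ B := ha
      set z := ⁅(c : G), (a : G)⁆ with hz
      have hzc : z ∈ centralizer (N : Set G) := by
        have h1 : π ⁅c, a⁆ = 1 := by
          rw [map_commutatorElement, commutatorElement_eq_one_iff_mul_comm]
          exact (mem_centralizer_singleton_iff.1 hut).symm
        have := (hπ1 _).1 h1
        rwa [← Subgroup.coe_subtype, map_commutatorElement] at this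
      have hzB : z ∈ B := by
        rw [hz, commutatorElement_def]
        exact B.mul_mem (hBn.conj_mem _ haB _) (B.inv_mem haB)
      obtain ⟨j, hj⟩ := hzB.2.2
      obtain ⟨k, hk⟩ := pow_mem_of_type h hT c hc
      have hzk : z ^ p ^ k = 1 := by
        have hpw : ∀ m : ℕ, (c : G) ^ m * a = z ^ m * a * (c : G) ^ m := by
          intro m
          induction m with
          | zero => simp
          | succ m ih =>
            have e : (c : G) * a = z * a * c := by rw [hz, commutatorElement_def]; group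
            have hzC : Commute z (c : G) := (mem_centralizer_iff.1 hzc _ c.2).symm
            calc (c : G) ^ (m + 1) * a = (c : G) ^ m * ((c : G) * a) := by rw [pow_succ]; group
              _ = (c : G) ^ m * (z * a * c) := by rw [e]
              _ = ((c : G) ^ m * z) * a * c := by group
              _ = (z * (c : G) ^ m) * a * c := by rw [(hzC.pow_right m).eq]
              _ = z * ((c : G) ^ m * a) * c := by group
              _ = z * (z ^ m * a * (c : G) ^ m) * c := by rw [ih]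
              _ = _ := by rw [pow_succ', pow_succ]; group
        have h1 := hpw (p ^ k)
        have h2 : (c : G) ^ p ^ k * a = a * (c : G) ^ p ^ k :=
          (mem_centralizer_iff.1 hk a a.2).symm
        rw [h2] at h1
        have h3 := mul_right_cancel h1
        exact mul_eq_right.1 h3.symm
      have hz1 : z = 1 := by
        have h3 := pow_gcd_eq_one.2 ⟨hzk, hj⟩
        rw [(Nat.Coprime.pow k j ((Nat.coprime_primes hp hq).2 (Ne.symm hqp))).gcd_eq_one,
          pow_one] at h3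
        exact h3
      have hcomm : Commute (c : G) a := commutatorElement_eq_one_iff_mul_comm.1 hz1
      rw [mem_bot, hπ1]
      rcases central_or_nc (a : G) a.2 with h1 | h1
      · exact h1
      · exact absurd h1 (hfpf _ hc hcn _ haB hcomm)
    have : π ⟨b, hb.1.1⟩ ∈ Bq := ⟨⟨b, hb.1.1⟩, hbB, rfl⟩
    rw [hbot, mem_bot, hπ1] at this
    exact hb.1.2 this
  have hCab : ∀ c ∈ C, ∀ c' ∈ C, c * c' = c' * c := by
    let f : C.subgroupOf N →* Cq := π.subgroupMap (C.subgroupOf N)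
    have : IsMulCommutative (C.subgroupOf N) := by
      refine f.isMulCommutative_of_isCyclic_of_ker_le_center fun a ha => ?_
      rw [mem_center_iff]
      intro d
      refine Subtype.ext ?_
      exact mem_center_iff.1 ((QuotientGroup.eq_one_iff (a : N)).1 (congrArg Subtype.val ha)) d
    intro c hc c' hc'
    exact congrArg (fun z : C.subgroupOf N => ((z : N) : G))
      (this.is_comm.comm ⟨⟨c, hc.2⟩, hc⟩ ⟨⟨c', hc'.2⟩, hc'⟩)
  refine ⟨hx, hnn, fun w hw hwn => ?_⟩
  have hle : cn N w ≤ C := by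
    intro u hu
    obtain ⟨a, ha, c, hc, rfl⟩ := hdec u hu.2
    have hwa : Commute w a := by
      have h1 : Commute w (a * c) := (mem_cz.1 hu.1).symm
      have h2 : Commute w c := hCab w hw c hc
      simpa using h1.mul_right h2.inv_right
    refine mul_mem ?_ hc
    rcases central_or_nc a (hBN ha) with h1 | h1
    · exact centralizer_inf_le_cn hx.1 ⟨h1, hBN ha⟩
    · exact absurd h1 (hfpf w hw hwn a ha hwa)
  have heq : cn N w = C := le_antisymm hle fun c hc => ⟨mem_cz.2 (hCab c hc w hw), hc.2⟩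
  have hwle : cz w ≤ cz x := by
    rw [← normalizer_eq_cz h hx hnn (cn_le_normalizer x)]
    show cz w ≤ normalizer (C : Set G)
    rw [← heq]
    exact cn_le_normalizer w
  rcases hwle.eq_or_lt with e | hlt
  · exact e
  · exact absurd ((h w hwn).2 _ hlt) (h x hx).1

/-- The exceptional case does not occur. -/
theorem exists_abel (h : Hyp N) {p₁ p₂ : ℕ} (hp₁ : p₁.Prime) (hp₂ : p₂.Prime) (hne : p₁ ≠ p₂)
    {x₁ x₂ : G} (hx₁ : NCp N p₁ x₁) (hx₂ : NCp N p₂ x₂) : ∃ x, Abel N x := by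
  classical
  by_contra hno
  push Not at hno
  obtain ⟨x', hx', hnn'⟩ := exists_not_normal h hp₁ hp₂ hne hx₁ hx₂
  obtain ⟨p', hp', ⟨x'₀, hx'₀, -⟩, hT'⟩ := exists_type h hx' hnn' (hno x')
  obtain ⟨q', y', hq', hqp', hy'⟩ : ∃ q' y', q'.Prime ∧ q' ≠ p' ∧ NCp N q' y' := by
    by_cases e : p₁ = p'
    · exact ⟨p₂, x₂, hp₂, fun e2 => hne (e.trans e2.symm), hx₂⟩
    · exact ⟨p₁, x₁, hp₁, e, hx₁⟩
  have hother : ∀ r v, r.Prime → r ≠ p' → NCp N r v → ¬ (cn N v).Normal := fun r v hr hrp hv hn =>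
    hno x' (abel_of_normal h hx' hnn' hp' hT' hr hrp hv hn)
  have htype : ∀ r v, r.Prime → NCp N r v → ¬ (cn N v).Normal →
      ∀ r' w, r'.Prime → w ∈ cn N v → NCp N r' w → r' = r := by
    intro r v hr hv hnn r' w hr' hw hwn
    obtain ⟨s, hs, -, hTs⟩ := exists_type h hv.1 hnn (hno v)
    exact (hTs r' w hr' hw hwn).trans (hTs r v hr ⟨mem_cz.2 rfl, hv.1.1⟩ hv).symm
  have hall : ∀ r v, r.Prime → NCp N r v → ¬ (cn N v).Normal := by
    intro r v hr hv hn
    by_cases e : r = p'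
    · have hy'n := hother q' y' hq' hqp' hy'
      refine hno y' (abel_of_normal h hy'.1 hy'n hq' (htype q' y' hq' hy' hy'n) hr ?_ hv hn)
      rw [e]; exact hqp'.symm
    · exact hother r v hr e hv hn
  -- an odd prime
  obtain ⟨p, q, x, y, hp, hq, hpq, hp2, hx, hy⟩ : ∃ p q x y, p.Prime ∧ q.Prime ∧ p ≠ q ∧ p ≠ 2 ∧
      NCp N p x ∧ NCp N q y := by
    by_cases e : p₁ = 2
    · exact ⟨p₂, p₁, x₂, x₁, hp₂, hp₁, hne.symm, fun e2 => hne (e.trans e2.symm), hx₂, hx₁⟩
    · exact ⟨p₁, p₂, x₁, x₂, hp₁, hp₂, hne, e, hx₁, hx₂⟩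
  have := Fact.mk hp
  have hnn := hall p x hp hx
  have hT := htype p x hp hx hnn
  set C := cn N x with hCdef
  have hxC : x ∈ C := ⟨mem_cz.2 rfl, hx.1.1⟩
  have hNn : normalizer (C : Set G) = cz x := normalizer_eq_cz h hx.1 hnn (cn_le_normalizer x)
  -- `C` is nilpotent
  have hCnil : Group.IsNilpotent C := by
    refine Group.of_quotient_center_nilpotent (IsPGroup.isNilpotent (p := p) fun z => ?_)
    obtain ⟨c, rfl⟩ := QuotientGroup.mk_surjective z
    obtain ⟨k, hk⟩ := pow_mem_of_type h hT c c.2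
    refine ⟨k, ?_⟩
    rw [← QuotientGroup.mk_pow, QuotientGroup.eq_one_iff, mem_center_iff]
    intro d
    exact Subtype.ext (mem_centralizer_iff.1 hk d d.2.2)
  -- its normal Sylow subgroup
  let S : Sylow p C := default
  have hSn : (S : Subgroup C).Normal := inferInstance
  have hSc : (S : Subgroup C).Characteristic := Sylow.characteristic_of_normal S hSn
  set P : Subgroup G := (S : Subgroup C).map C.subtype with hP
  have hPp : IsPGroup p P := S.isPGroup'.map _
  have hPC : P ≤ C := map_subtype_le _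
  have hmemP : ∀ v ∈ C, (∃ a, orderOf v = p ^ a) → v ∈ P := by
    intro v hv ⟨a, ha⟩
    have hpg : IsPGroup p (zpowers (⟨v, hv⟩ : C)) := IsPGroup.of_card (n := a) (by
      rw [Nat.card_zpowers, Subgroup.orderOf_mk, ha])
    obtain ⟨T, hT'⟩ := hpg.exists_le_sylow
    have hTS : T = S := by
      have := Sylow.unique_of_normal S hSn
      exact Subsingleton.elim _ _
    exact ⟨⟨v, hv⟩, hTS ▸ hT' (mem_zpowers _), rfl⟩
  have hcz_P : cz x ≤ normalizer (P : Set G) := by
    rw [← hNn]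
    intro g hg
    refine CfsgLib.NilpotentMaximal.mem_normalizer_of_conj P g ?_
    intro v hv
    refine hmemP _ ((mem_normalizer_iff.1 hg v).1 (hPC hv)) ?_
    obtain ⟨i, hi⟩ := IsPGroup.iff_orderOf.1 hPp ⟨v, hv⟩
    refine ⟨i, ?_⟩
    rw [show g * v * g⁻¹ = MulAut.conj g v from rfl, MulEquiv.orderOf_eq, ← hi, Subgroup.orderOf_mk]
  have hCdec : ∀ v, v ∈ C → ∃ u ∈ P, ∃ z ∈ centralizer (N : Set G) ⊓ N, v = u * z := by
    refine parts_induction _ (fun r v hr hv hvC => ?_) ?_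
    · rcases central_or_nc v hvC.2 with hc | hnc
      · exact ⟨1, one_mem _, v, ⟨hc, hvC.2⟩, (one_mul v).symm⟩
      · obtain ⟨a, ha⟩ := hv
        have hrp := hT r v hr hvC ⟨hnc, a, ha⟩
        exact ⟨v, hmemP v hvC ⟨a, by rw [ha, hrp]⟩, 1, one_mem _, (mul_one v).symm⟩
    · intro a b hc ha hb iha ihb hN'
      obtain ⟨u, hu, z, hz, rfl⟩ := iha (zpowers_le.2 hN' ha)
      obtain ⟨u', hu', z', hz', rfl⟩ := ihb (zpowers_le.2 hN' hb)
      refine ⟨u * u', mul_mem hu hu', z * z', mul_mem hz hz', ?_⟩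
      have h1 : z * u' = u' * z := (mem_centralizer_iff.1 hz.1 u' (hPC hu').2).symm
      calc u * z * (u' * z') = u * (z * u') * z' := by group
        _ = u * (u' * z) * z' := by rw [h1]
        _ = _ := by group
  have hCnormal : ∀ D : Subgroup G, D.Normal → D ≤ C →
      (∀ u ∈ P, ∃ d ∈ D, ∃ z ∈ centralizer (N : Set G) ⊓ N, u = d * z) → False := by
    intro D hD hDC hdD
    apply hnn
    refine ⟨fun v hv g => ?_⟩
    obtain ⟨u, hu, z, hz, rfl⟩ := hCdec v hv
    obtain ⟨d, hd, z', hz', rfl⟩ := hdD u hu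
    rw [show g * (d * z' * z) * g⁻¹ = (g * d * g⁻¹) * (g * (z' * z) * g⁻¹) by group]
    refine mul_mem (hDC (hD.conj_mem d hd g)) (centralizer_inf_le_cn hx.1.1 ⟨?_, ?_⟩)
    · exact mem_centralizer_normal (mul_mem hz'.1 hz.1) g
    · exact hN.conj_mem _ (mul_mem hz'.2 hz.2) g
  have hPn : ¬ P.Normal := fun hPn => hCnormal P hPn hPC fun u hu =>
    ⟨u, hu, 1, one_mem _, (mul_one u).symm⟩
  have hNP : normalizer (P : Set G) = cz x := normalizer_eq_cz h hx.1 hPn hcz_P
  -- the centre of the Thompson subgroup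
  set A := CfsgLib.PLocal.centerJ 0 P with hA
  have hAP : A ≤ P := CfsgLib.PLocal.centerJ_le 0 P
  have hxA : x ∈ A := by
    rw [hA, CfsgLib.PLocal.centerJ_zero_eq]
    exact ⟨hmemP x hxC hx.2, mem_centralizer_iff.2 fun u hu =>
      mem_cz.1 (hPC (CfsgLib.PLocal.thompson_le 0 P hu)).1⟩
  have hAn : ¬ A.Normal := by
    intro hAn
    have hAy : ¬ A ≤ cz y := fun hle => hpq.symm
      (hT q y hq ⟨mem_cz_symm (hle hxA), hy.1.1⟩ hy)
    refine hCnormal A hAn (hAP.trans hPC) fun u hu => ?_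
    obtain ⟨a, ha, c, hc, rfl⟩ := mem_mul_of_top hAn ((hAP.trans hPC).trans inf_le_right)
      (h y hy.1) hAy (hPC hu).2
    refine ⟨a, ha, c, ⟨?_, hc.2⟩, rfl⟩
    rcases central_or_nc c hc.2 with h1 | h1
    · exact h1
    · exfalso
      have hcP : c ∈ P := by simpa using P.mul_mem (P.inv_mem (hAP ha)) hu
      obtain ⟨i, hi⟩ := IsPGroup.iff_orderOf.1 hPp ⟨c, hcP⟩
      rw [Subgroup.orderOf_mk] at hi
      exact hpq (htype q y hq hy (hall q y hq hy) p c hp hc ⟨h1, i, hi⟩)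
  have hNA : normalizer (A : Set G) = cz x :=
    normalizer_eq_cz h hx.1 hAn (hcz_P.trans (CfsgLib.PLocal.normalizer_le_normalizer_centerJ 0 P))
  -- `P` is a Sylow subgroup of `N`
  have hPN : P ≤ N := hPC.trans inf_le_right
  obtain ⟨T, hT'⟩ := (hPp.of_equiv (subgroupOfEquivOfLe hPN).symm).exists_le_sylow
  have hTP : (T : Subgroup N) = P.subgroupOf N := by
    refine le_antisymm ?_ hT'
    by_contra hle
    set P' := (P.subgroupOf N).subgroupOf (T : Subgroup N) with hP'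
    have hlt : P' < ⊤ := lt_top_iff_ne_top.2 fun e => hle (subgroupOf_eq_top.1 e)
    have := T.isPGroup'.isNilpotent
    obtain ⟨t, ht, htP⟩ := SetLike.exists_of_lt (Group.normalizerCondition_of_isNilpotent _ hlt)
    apply htP
    have htn : ((t : N) : G) ∈ normalizer (P : Set G) := by
      refine CfsgLib.NilpotentMaximal.mem_normalizer_of_conj P _ fun u hu => ?_
      exact (mem_normalizer_iff.1 ht ⟨⟨u, hPN hu⟩, hT' hu⟩).1 hu
    rw [hNP] at htn
    obtain ⟨i, hi⟩ := IsPGroup.iff_orderOf.1 T.isPGroup' t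
    exact hmemP _ ⟨htn, (t : N).2⟩ ⟨i, (orderOf_injective _ N.subtype_injective _).trans
      ((orderOf_injective _ (T : Subgroup N).subtype_injective t).trans hi)⟩
  have hTmap : (T : Subgroup N).map N.subtype = P := by
    rw [hTP, subgroupOf_map_subtype, inf_eq_left.2 hPN]
  -- hence a normal complement in `N`
  have hnilN : Group.IsNilpotent (normalizer (CfsgLib.PLocal.zj 0 (T : Subgroup N) : Set N)) := by
    have key : ∀ n ∈ normalizer (CfsgLib.PLocal.zj 0 (T : Subgroup N) : Set N), (n : G) ∈ C := by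
      intro n hn
      refine ⟨?_, n.2⟩
      rw [← hNA]
      refine CfsgLib.NilpotentMaximal.mem_normalizer_of_conj A _ ?_
      rw [hA, ← hTmap, CfsgLib.PLocal.centerJ_map N.subtype_injective, ← CfsgLib.PLocal.zj_zero]
      rintro _ ⟨z, hz, rfl⟩
      exact ⟨n * z * n⁻¹, (mem_normalizer_iff.1 hn z).1 hz, rfl⟩
    refine CfsgLib.HughesThompson.isNilpotent_of_injective_hom
      ((N.subtype.comp (normalizer (CfsgLib.PLocal.zj 0 (T : Subgroup N) : Set N)).subtype).codRestrict C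
        fun n => key n n.2) ?_
    intro a b hab
    exact Subtype.ext (Subtype.ext (congrArg (fun c : C => (c : G)) hab :))
  have hcompl : Cfsg.HasNormalPComplement p N :=
    CfsgLib.Frobenius.ZJComp.hasNormalPComplement_of_zj hp2 (Or.inl rfl) T
      (CfsgLib.NilpotentMaximal.hasNormalPComplement_of_isNilpotent p)
  obtain ⟨T₂, K, hKn, hKc⟩ := hcompl
  obtain ⟨hKres, hKp⟩ := CfsgLib.Transfer.eq_pResidual_of_isComplement' T₂ K hKc
  have : K.Characteristic := by
    rw [hKres]; exact CfsgLib.Transfer.pResidual_characteristic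
  let K' : Subgroup G := K.map N.subtype
  have hK'n : K'.Normal := ConjAct.normal_of_characteristic_of_normal
  have hK'N : K' ≤ N := map_subtype_le _
  have hqK : ∀ v, ∀ hv : v ∈ N, (∀ hdvd : p ∣ orderOf v, False) → v ∈ K' := by
    intro v hv hpv
    refine ⟨⟨v, hv⟩, ?_, rfl⟩
    rw [SetLike.mem_coe, ← QuotientGroup.eq_one_iff]
    obtain ⟨j, hj⟩ := T₂.isPGroup'.exists_card_eq
    have h1 : orderOf ((⟨v, hv⟩ : N) : N ⧸ K) ∣ p ^ j := by
      refine (_root_.orderOf_dvd_natCard _).trans (dvd_of_eq ?_)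
      rw [← index_eq_card, hKc.symm.index_eq_card, hj]
    have h2 : orderOf ((⟨v, hv⟩ : N) : N ⧸ K) ∣ orderOf v := by
      refine (orderOf_map_dvd (QuotientGroup.mk' K) _).trans ?_
      rw [Subgroup.orderOf_mk]
    exact orderOf_eq_one_iff.1 (Nat.eq_one_of_dvd_coprimes
      (Nat.Coprime.pow_right j (Nat.coprime_comm.1 (hp.coprime_iff_not_dvd.2 hpv))) h2 h1)
  have hKy : ¬ K' ≤ cz y := by
    intro hle
    refine hall q y hq hy ⟨fun v hv g => ?_⟩
    have hdecy : ∀ v, v ∈ cn N y → ∃ u ∈ K', ∃ z ∈ centralizer (N : Set G) ⊓ N, v = u * z := by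
      refine parts_induction _ (fun r v hr hv hvC => ?_) ?_
      · rcases central_or_nc v hvC.2 with hc | hnc
        · exact ⟨1, one_mem _, v, ⟨hc, hvC.2⟩, (one_mul v).symm⟩
        · obtain ⟨a, ha⟩ := hv
          have hrp := htype q y hq hy (hall q y hq hy) r v hr hvC ⟨hnc, a, ha⟩
          refine ⟨v, hqK v hvC.2 fun hdvd => ?_, 1, one_mem _, (mul_one v).symm⟩
          rw [ha, hrp] at hdvd
          exact hpq ((Nat.prime_dvd_prime_iff_eq hp hq).1 (hp.dvd_of_dvd_pow hdvd))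
      · intro a b hc ha hb iha ihb hN'
        obtain ⟨u, hu, z, hz, rfl⟩ := iha (zpowers_le.2 hN' ha)
        obtain ⟨u', hu', z', hz', rfl⟩ := ihb (zpowers_le.2 hN' hb)
        refine ⟨u * u', mul_mem hu hu', z * z', mul_mem hz hz', ?_⟩
        have h1 : z * u' = u' * z := (mem_centralizer_iff.1 hz.1 u' (hK'N hu')).symm
        calc u * z * (u' * z') = u * (z * u') * z' := by group
          _ = u * (u' * z) * z' := by rw [h1]
          _ = _ := by group
    obtain ⟨u, hu, z, hz, rfl⟩ := hdecy v hv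
    rw [show g * (u * z) * g⁻¹ = (g * u * g⁻¹) * (g * z * g⁻¹) by group]
    exact mul_mem ⟨hle (hK'n.conj_mem u hu g), hK'N (hK'n.conj_mem u hu g)⟩
      (centralizer_inf_le_cn hy.1.1 ⟨mem_centralizer_normal hz.1 g, hN.conj_mem _ hz.2 g⟩)
  obtain ⟨k, hk, c, hc, hxkc⟩ := mem_mul_of_top hK'n hK'N (h y hy.1) hKy hx.1.1
  -- split the element of `cn N y`
  have hdecy2 : ∀ v, v ∈ cn N y → ∃ u ∈ K', ∃ z ∈ centralizer (N : Set G) ⊓ N, v = u * z := by
    refine parts_induction _ (fun r v hr hv hvC => ?_) ?_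
    · rcases central_or_nc v hvC.2 with hc | hnc
      · exact ⟨1, one_mem _, v, ⟨hc, hvC.2⟩, (one_mul v).symm⟩
      · obtain ⟨a, ha⟩ := hv
        have hrp := htype q y hq hy (hall q y hq hy) r v hr hvC ⟨hnc, a, ha⟩
        refine ⟨v, hqK v hvC.2 fun hdvd => ?_, 1, one_mem _, (mul_one v).symm⟩
        rw [ha, hrp] at hdvd
        exact hpq ((Nat.prime_dvd_prime_iff_eq hp hq).1 (hp.dvd_of_dvd_pow hdvd))
    · intro a b hc ha hb iha ihb hN'
      obtain ⟨u, hu, z, hz, rfl⟩ := iha (zpowers_le.2 hN' ha)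
      obtain ⟨u', hu', z', hz', rfl⟩ := ihb (zpowers_le.2 hN' hb)
      refine ⟨u * u', mul_mem hu hu', z * z', mul_mem hz hz', ?_⟩
      have h1 : z * u' = u' * z := (mem_centralizer_iff.1 hz.1 u' (hK'N hu')).symm
      calc u * z * (u' * z') = u * (z * u') * z' := by group
        _ = u * (u' * z) * z' := by rw [h1]
        _ = _ := by group
  obtain ⟨u, hu, z, hz, rfl⟩ := hdecy2 c hc
  set k' := k * u with hk'
  have hk'K : k' ∈ K' := mul_mem hk hu
  have hxk' : x = k' * z := by rw [hxkc, hk', mul_assoc]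
  have hk'n : NC N k' := ⟨hK'N hk'K, fun hh => hx.1.2 (hxk' ▸ mul_mem hh hz.1)⟩
  have hk'C : k' ∈ C := by
    refine ⟨?_, hk'n.1⟩
    have h1 : k' = x * z⁻¹ := by rw [hxk', mul_inv_cancel_right]
    rw [h1]
    exact (cz x).mul_mem (mem_cz.2 rfl)
      ((cz x).inv_mem (centralizer_inf_le_cn hx.1.1 hz).1)
  obtain ⟨r, w, hr, hw, hwk, hwn, -⟩ := exists_part h k' hk'n
  obtain rfl := hT r w hr (zpowers_le.2 hk'C hwk) ⟨hwn, hw⟩
  obtain ⟨a, ha⟩ := hw
  have hdvd : r ∣ orderOf w := by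
    rw [ha]
    refine dvd_pow_self r fun h0 => ?_
    rw [h0, pow_zero, orderOf_eq_one_iff] at ha
    exact hwn.2 (ha ▸ one_mem _)
  apply hKp
  rw [← card_map_of_injective N.subtype_injective (K := K)]
  exact hdvd.trans ((orderOf_dvd_of_mem_zpowers hwk).trans (orderOf_dvd_natCard K' hk'K))

end CfsgLib.MaxCentralizer
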