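import Cfsg.Agent.Lib.Struct77.MaxCentralizer.Exists
import Cfsg.Agent.Lib.Frobenius.Theorem
import Cfsg.Agent.Lib.TwoFrobenius.Complement

/-!
Normal subgroups all whose non-central elements have maximal centralizers: the central quotient is
elementary abelian or a Frobenius group with elementary abelian kernel and complement of prime order.
-/

set_option autoImplicit false

namespace CfsgLib.MaxCentralizer

open Subgroup
open scoped Pointwise commutatorElement

universe u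

variable {G : Type u} [Group G] {N : Subgroup G}

theorem mk_eq_one {n : N} :
    (QuotientGroup.mk' (center N)) n = 1 ↔ (n : G) ∈ centralizer (N : Set G) :=
  (QuotientGroup.eq_one_iff n).trans mk_mem_center

/-- The preimage in `G` of a subgroup of the central quotient. -/
def hat (S : Subgroup (N ⧸ center N)) : Subgroup G :=
  (S.comap (QuotientGroup.mk' (center N))).map N.subtype

theorem hat_le (S : Subgroup (N ⧸ center N)) : hat S ≤ N := map_subtype_le _

theorem coe_mem_hat {S : Subgroup (N ⧸ center N)} {n : N} :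
    (n : G) ∈ hat S ↔ QuotientGroup.mk' (center N) n ∈ S := by
  constructor
  · rintro ⟨m, hm, e⟩
    rw [show n = m from Subtype.ext e.symm]
    exact hm
  · exact fun h => ⟨n, h, rfl⟩

theorem mem_hat {S : Subgroup (N ⧸ center N)} {v : G} (hv : v ∈ N) :
    v ∈ hat S ↔ QuotientGroup.mk' (center N) ⟨v, hv⟩ ∈ S := coe_mem_hat (n := ⟨v, hv⟩)

variable [hN : N.Normal]

/-- The action of `G` on the central quotient of `N`. -/
noncomputable def conjQuot (g : G) : N ⧸ center N →* N ⧸ center N :=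
  QuotientGroup.map _ _ ((MulAut.conjNormal g : MulAut N)).toMonoidHom fun z hz => by
    rw [mem_comap, mk_mem_center]
    show ((MulAut.conjNormal g z : N) : G) ∈ centralizer (N : Set G)
    rw [MulAut.conjNormal_apply]
    exact mem_centralizer_normal (mk_mem_center.1 hz) g

theorem conjQuot_mk (g : G) (n : N) : conjQuot g (QuotientGroup.mk' (center N) n) =
    QuotientGroup.mk' (center N) (MulAut.conjNormal g n) := rfl

theorem conjQuot_inv (g : G) (q : N ⧸ center N) : conjQuot g (conjQuot g⁻¹ q) = q := by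
  obtain ⟨n, rfl⟩ := QuotientGroup.mk'_surjective _ q
  rw [conjQuot_mk, conjQuot_mk]
  congr 1
  exact Subtype.ext (by simp [MulAut.conjNormal_apply, mul_assoc])

theorem hat_normal {S : Subgroup (N ⧸ center N)} (hS : ∀ g : G, ∀ q ∈ S, conjQuot g q ∈ S) :
    (hat S).Normal := by
  refine ⟨fun v hv g => ?_⟩
  obtain ⟨n, rfl⟩ : ∃ n : N, (n : G) = v := ⟨⟨v, hat_le S hv⟩, rfl⟩
  rw [← MulAut.conjNormal_apply, coe_mem_hat, ← conjQuot_mk]
  exact hS g _ (coe_mem_hat.1 hv)

theorem conjQuot_mem_of_normal {S : Subgroup (N ⧸ center N)} (hS : (hat S).Normal) (g : G)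
    {q : N ⧸ center N} (hq : q ∈ S) : conjQuot g q ∈ S := by
  obtain ⟨n, rfl⟩ := QuotientGroup.mk'_surjective _ q
  rw [conjQuot_mk, ← coe_mem_hat, MulAut.conjNormal_apply]
  exact hS.conj_mem _ (coe_mem_hat.2 hq) g

variable [Finite G]

/-- The main lemma. -/
theorem frobenius_of_abel (h : Hyp N)
    (hZ : ∀ z ∈ N, z ∈ centralizer (N : Set G) → z ∈ center G) {x : G} (hA : Abel N x) :
    ∃ (Q K : Subgroup (N ⧸ center N)) (p : ℕ), p.Prime ∧ Cfsg.IsFrobeniusComplement Q ∧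
      (Nat.card Q).Prime ∧ K.Normal ∧ (K : Set (N ⧸ center N)) = Cfsg.frobeniusKernel Q ∧
      Cfsg.IsElementaryAbelian p K ∧
      ∀ S : Subgroup (N ⧸ center N), S ≤ K → S ≠ ⊥ →
        (∀ g : G, ∀ q ∈ S, conjQuot g q ∈ S) → K ≤ S := by
  classical
  obtain ⟨hx, hnn, hcz⟩ := hA
  let π := QuotientGroup.mk' (center N)
  have hsurj : Function.Surjective π := QuotientGroup.mk'_surjective _
  set C := cn N x with hCdef
  set Cq : Subgroup (N ⧸ center N) := (C.subgroupOf N).map π with hCq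
  have hmemC : ∀ n : N, π n ∈ Cq ↔ (n : G) ∈ C := by
    intro n
    constructor
    · rintro ⟨m, hm, e⟩
      have h1 : ((m⁻¹ * n : N) : G) ∈ centralizer (N : Set G) :=
        mk_mem_center.1 (QuotientGroup.eq.1 (e : ((m : N) : N ⧸ center N) = (n : N ⧸ center N)))
      have h2 : (n : G) = (m : G) * ((m⁻¹ * n : N) : G) := by simp
      rw [h2]
      exact C.mul_mem hm (centralizer_inf_le_cn hx.1 ⟨h1, (m⁻¹ * n : N).2⟩)
    · exact fun hn => ⟨n, hn, rfl⟩
  have hxC : x ∈ C := ⟨mem_cz.2 rfl, hx.1⟩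
  have hNn : normalizer (C : Set G) = cz x := normalizer_eq_cz h hx hnn (cn_le_normalizer x)
  have hCab : ∀ c ∈ C, ∀ d ∈ C, c * d = d * c := by
    intro c hc d hd
    rcases central_or_nc d hd.2 with hdc | hdn
    · exact mem_centralizer_iff.1 hdc c hc.2
    · have h1 : c ∈ cz d := (hcz d hd hdn).symm ▸ hc.1
      exact mem_cz.1 h1
  -- the Frobenius complement
  have hF : Cfsg.IsFrobeniusComplement Cq := by
    refine ⟨?_, ?_, fun g hg => ?_⟩
    · intro hbot
      have := (hmemC ⟨x, hx.1⟩).2 hxC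
      rw [hbot, mem_bot, mk_eq_one] at this
      exact hx.2 this
    · intro htop
      refine not_le_cz hx fun n hn => ((hmemC ⟨n, hn⟩).1 ?_).1
      rw [htop]; exact mem_top _
    · rw [eq_bot_iff]
      rintro q ⟨hq1, hq2⟩
      replace hq2 : g⁻¹ * q * g ∈ Cq := Frobenius.mem_conj_smul_iff.1 hq2
      obtain ⟨c, rfl⟩ := hsurj q
      obtain ⟨g, rfl⟩ := hsurj g
      rw [← map_inv, ← map_mul, ← map_mul] at hq2
      rw [mem_bot, mk_eq_one]
      rcases central_or_nc (c : G) c.2 with h1 | h1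
      · exact h1
      exfalso
      apply hg
      rw [hmemC]
      have hc1 : (c : G) ∈ C := (hmemC c).1 hq1
      have hc2 : (g : G)⁻¹ * c * g ∈ C := by simpa using (hmemC _).1 hq2
      have hn2 : NC N ((g : G)⁻¹ * c * g) := by
        simpa using nc_conj h1 (g : G)⁻¹
      have e1 : cz (c : G) = cz x := hcz _ hc1 h1
      have e2 : cz ((g : G)⁻¹ * c * g) = cz x := hcz _ hc2 hn2
      have e3 : (cz x).map (MulAut.conj (g : G)).toMonoidHom = cz x := by
        conv_lhs => rw [← e2, ← cz_conj, show (g : G) * ((g : G)⁻¹ * c * g) * (g : G)⁻¹ = c by group]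
        exact e1
      refine ⟨?_, g.2⟩
      rw [← hNn]
      refine CfsgLib.NilpotentMaximal.mem_normalizer_of_conj C _ fun v hv => ⟨?_, hN.conj_mem v hv.2 _⟩
      rw [← e3]
      exact ⟨v, hv.1, rfl⟩
  obtain ⟨K, hKset, hKn, hKc⟩ := Frobenius.exists_normal_kernel hF
  have hKdis : ∀ q, q ∈ K → q ∈ Cq → q = 1 := fun q h1 h2 => by
    have := hKc.disjoint.le_bot ⟨h1, h2⟩
    simpa using this
  have hKmem : ∀ n : N, (n : G) ∈ hat K ↔
      ((n : G) ∈ centralizer (N : Set G) ∨ ∀ m ∈ N, m⁻¹ * (n : G) * m ∉ C) := by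
    intro n
    rw [coe_mem_hat, ← SetLike.mem_coe, hKset]
    refine or_congr mk_eq_one ⟨fun hh m hm hmem => ?_, fun hh q hmem => ?_⟩
    · refine hh (π ⟨m, hm⟩) (Frobenius.mem_conj_smul_iff.2 ?_)
      rw [← map_inv, ← map_mul, ← map_mul, hmemC]
      simpa using hmem
    · obtain ⟨m, rfl⟩ := hsurj q
      rw [Frobenius.mem_conj_smul_iff, ← map_inv, ← map_mul, ← map_mul, hmemC] at hmem
      exact hh m m.2 (by simpa using hmem)
  have hcoe : ∀ n : N, π n ∈ K → (n : G) ∈ hat K := fun n hn => coe_mem_hat.2 hn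
  -- products
  have hsup : N ⊔ cz x = ⊤ := (h x hx).2 _ (right_lt_sup.2 (not_le_cz hx))
  -- the preimage of the kernel is normal in `G`
  have hKhat : (hat K).Normal := by
    rw [← normalizer_eq_top_iff, eq_top_iff, ← hsup, sup_le_iff]
    refine ⟨fun g hg => ?_, fun g hg => ?_⟩
    · refine CfsgLib.NilpotentMaximal.mem_normalizer_of_conj (hat K) g fun v hv => ?_
      have hvN := hat_le K hv
      have e : g * v * g⁻¹ = ((⟨g, hg⟩ * ⟨v, hvN⟩ * ⟨g, hg⟩⁻¹ : N) : G) := rfl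
      rw [e, coe_mem_hat, map_mul, map_mul, map_inv]
      exact hKn.conj_mem _ ((mem_hat hvN).1 hv) _
    · refine CfsgLib.NilpotentMaximal.mem_normalizer_of_conj (hat K) g fun v hv => ?_
      have hvN := hat_le K hv
      refine (hKmem ⟨g * v * g⁻¹, hN.conj_mem v hvN g⟩).2 ?_
      rcases (hKmem ⟨v, hvN⟩).1 hv with h1 | h1
      · exact Or.inl (mem_centralizer_normal h1 g)
      · refine Or.inr fun m hm hmem => ?_
        change m⁻¹ * (g * v * g⁻¹) * m ∈ C at hmem
        refine h1 (g⁻¹ * m * g) (by simpa using hN.conj_mem m hm g⁻¹) ?_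
        have hgn : g ∈ normalizer (C : Set G) := hNn.symm ▸ hg
        have hmem' := (mem_normalizer_iff.1 (inv_mem hgn) _).1 hmem
        convert hmem' using 1
        show (g⁻¹ * m * g)⁻¹ * v * (g⁻¹ * m * g) = _
        group
  -- minimality of the kernel
  have hmin : ∀ S : Subgroup (N ⧸ center N), S ≤ K → S ≠ ⊥ →
      (∀ g : G, ∀ q ∈ S, conjQuot g q ∈ S) → K ≤ S := by
    intro S hSK hS hinv q hq
    have hD := hat_normal hinv
    have hDle : ¬ hat S ≤ cz x := by
      intro hle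
      refine hS (eq_bot_iff.2 fun s hs => ?_)
      obtain ⟨n, rfl⟩ := hsurj s
      exact mem_bot.2 (hKdis _ (hSK hs)
        ((hmemC n).2 ⟨hle (coe_mem_hat.2 hs), n.2⟩))
    obtain ⟨n, rfl⟩ := hsurj q
    obtain ⟨a, ha, c, hc, e⟩ := mem_mul_of_top hD (hat_le S) (h x hx) hDle n.2
    have e' : n = ⟨a, hat_le S ha⟩ * ⟨c, hc.2⟩ := Subtype.ext e
    have haS : π ⟨a, hat_le S ha⟩ ∈ S := (mem_hat _).1 ha
    rw [e', map_mul] at hq ⊢
    have hc1 : π ⟨c, hc.2⟩ = 1 := hKdis _ ((K.mul_mem_cancel_left (hSK haS)).1 hq) ((hmemC _).2 hc)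
    rw [hc1, mul_one]
    exact haS
  have hKinv : ∀ g : G, ∀ q ∈ K, conjQuot g q ∈ K := fun g q hq =>
    conjQuot_mem_of_normal hKhat g hq
  have hKbot : K ≠ ⊥ := by
    intro hbot
    refine hF.2.1 (eq_top_iff.2 ?_)
    rw [← hKc.sup_eq_top, hbot, bot_sup_eq]
  -- the kernel is abelian
  have : K.Normal := hKn
  have hKnil : Group.IsNilpotent K := TwoFrobenius.isNilpotent_kernel hF hKc
  have hKab : ∀ a ∈ K, ∀ b ∈ K, a * b = b * a := by
    have hle : K ≤ K ⊓ centralizer (K : Set (N ⧸ center N)) := by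
      refine hmin _ inf_le_left ?_ ?_
      · have : Nontrivial K := (nontrivial_iff_ne_bot K).2 hKbot
        obtain ⟨⟨z, hz⟩, hz1⟩ := ne_bot_iff_exists_ne_one.1 (Group.IsNilpotent.center_ne_bot K)
        replace hz1 : z ≠ 1 := fun e => hz1 (Subtype.ext e)
        intro hbot
        apply hz1
        have : (z : N ⧸ center N) ∈ K ⊓ centralizer (K : Set (N ⧸ center N)) :=
          ⟨z.2, mem_centralizer_iff.2 fun k hk => congrArg Subtype.val (mem_center_iff.1 hz ⟨k, hk⟩)⟩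
        rw [hbot, mem_bot] at this
        exact Subtype.ext this
      · rintro g q ⟨hq, hqc⟩
        refine ⟨hKinv g q hq, mem_centralizer_iff.2 fun k hk => ?_⟩
        have h1 := mem_centralizer_iff.1 hqc (conjQuot g⁻¹ k) (hKinv g⁻¹ k hk)
        have h2 := congrArg (conjQuot g) h1
        rwa [map_mul, map_mul, conjQuot_inv] at h2
    intro a ha b hb
    exact mem_centralizer_iff.1 (hle hb).2 a ha
  -- and of prime exponent
  have hK1 : Nat.card K ≠ 1 := fun e => hKbot (card_eq_one.1 e)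
  obtain ⟨p, hp, hpK⟩ := Nat.exists_prime_and_dvd hK1
  have hKel : Cfsg.IsElementaryAbelian p K := by
    refine ⟨⟨⟨fun a b => Subtype.ext (hKab a a.2 b b.2)⟩⟩, ?_⟩
    let S : Subgroup (N ⧸ center N) :=
      { carrier := {q | q ∈ K ∧ q ^ p = 1}
        one_mem' := ⟨one_mem _, one_pow _⟩
        mul_mem' := fun {a b} ha hb => ⟨mul_mem ha.1 hb.1, by
          rw [(show Commute a b from hKab a ha.1 b hb.1).mul_pow, ha.2, hb.2, one_mul]⟩
        inv_mem' := fun {a} ha => ⟨inv_mem ha.1, by rw [inv_pow, ha.2, inv_one]⟩ }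
    have hle : K ≤ S := by
      refine hmin S (fun q hq => hq.1) ?_ fun g q hq => ⟨hKinv g q hq.1, by
        rw [← map_pow, hq.2, map_one]⟩
      have := Fact.mk hp
      obtain ⟨⟨t, ht⟩, hto⟩ := exists_prime_orderOf_dvd_card' p hpK
      rw [orderOf_mk] at hto
      intro hbot
      have : t ∈ S := ⟨ht, by rw [← hto, pow_orderOf_eq_one]⟩
      rw [hbot, mem_bot] at this
      rw [this, orderOf_one] at hto
      exact hp.ne_one hto.symm
    exact fun a ha => (hle ha).2
  -- the complement has prime order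
  obtain ⟨⟨k, hkK⟩, hk1⟩ := ne_bot_iff_exists_ne_one.1 hKbot
  replace hk1 : k ≠ 1 := fun e => hk1 (Subtype.ext e)
  obtain ⟨n, rfl⟩ := hsurj k
  have hnc : NC N (n : G) := ⟨n.2, fun hh => hk1 (mk_eq_one.2 hh)⟩
  have hnhat : (n : G) ∈ hat K := coe_mem_hat.2 hkK
  have hLK : ∀ m ∈ N, m ∈ cz (n : G) → m ∈ hat K := by
    intro m hm hmn
    refine (hKmem ⟨m, hm⟩).2 ?_
    rcases central_or_nc m hm with h1 | h1
    · exact Or.inl h1
    refine Or.inr fun u hu hmem => ?_
    change u⁻¹ * m * u ∈ C at hmem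
    have hn2 : NC N (u⁻¹ * m * u) := by simpa using nc_conj h1 u⁻¹
    have e := hcz _ hmem hn2
    have hmn' : (n : G) * m = m * n := (mem_cz.1 hmn).symm
    have hcomm : u⁻¹ * (n : G) * u ∈ cz (u⁻¹ * m * u) := by
      rw [mem_cz]
      calc u⁻¹ * (n : G) * u * (u⁻¹ * m * u) = u⁻¹ * ((n : G) * m) * u := by group
        _ = u⁻¹ * (m * n) * u := by rw [hmn']
        _ = _ := by group
    rw [e] at hcomm
    have hcC : u⁻¹ * (n : G) * u ∈ C :=
      ⟨hcomm, by simpa using hN.conj_mem _ n.2 u⁻¹⟩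
    rcases (hKmem n).1 hnhat with h2 | h2
    · exact hnc.2 h2
    · exact h2 u hu hcC
  have hC1 : Nat.card Cq ≠ 1 := fun e => hF.1 (card_eq_one.1 e)
  obtain ⟨q, hq, hqC⟩ := Nat.exists_prime_and_dvd hC1
  have := Fact.mk hq
  obtain ⟨⟨t, htC⟩, hto⟩ := exists_prime_orderOf_dvd_card' q hqC
  rw [orderOf_mk] at hto
  obtain ⟨c, rfl⟩ := hsurj t
  have hct : π c ≠ 1 := fun e => hq.ne_one (by rw [← hto, e, orderOf_one])
  have hcn' : NC N (c : G) := ⟨c.2, fun hh => hct (mk_eq_one.2 hh)⟩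
  have hcC : (c : G) ∈ C := (hmemC c).1 htC
  have hce : cz (c : G) = cz x := hcz _ hcC hcn'
  set H := hat K ⊔ zpowers (c : G) with hH
  have hHN : H ≤ N := sup_le (hat_le K) (zpowers_le.2 c.2)
  have hKx : ¬ hat K ≤ cz x := fun hle =>
    hk1 (hKdis _ hkK ((hmemC n).2 ⟨hle hnhat, n.2⟩))
  have hHn : H.Normal := by
    rw [← normalizer_eq_top_iff, eq_top_iff, ← (h x hx).2 _ (right_lt_sup.2 hKx), sup_le_iff]
    refine ⟨le_sup_left.trans le_normalizer, fun g hg => ?_⟩
    refine CfsgLib.NilpotentMaximal.mem_normalizer_of_conj H g ?_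
    have hgc : g * (c : G) * g⁻¹ = c := by
      have h1 : g * (c : G) = c * g := mem_cz.1 (hce.symm ▸ hg)
      rw [h1, mul_inv_cancel_right]
    have hle : H ≤ H.comap (MulAut.conj g).toMonoidHom := by
      refine sup_le (fun v hv => ?_) (zpowers_le.2 ?_)
      · exact mem_sup_left (hKhat.conj_mem v hv g)
      · show g * (c : G) * g⁻¹ ∈ H
        rw [hgc]; exact mem_sup_right (mem_zpowers _)
    exact fun v hv => hle hv
  have hHL : ¬ H ≤ cz (n : G) := fun hle =>
    hct (hKdis _ (coe_mem_hat.1 (hLK c c.2 (hle (mem_sup_right (mem_zpowers _))))) htC)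
  have hall : ∀ m ∈ N, m ∈ H := by
    intro m hm
    obtain ⟨a, ha, b, hb, rfl⟩ := mem_mul_of_top hHn hHN (h _ hnc) hHL hm
    exact H.mul_mem ha (mem_sup_left (hLK b hb.2 hb.1))
  have hCcyc : Cq = zpowers (π c) := by
    refine le_antisymm ?_ (zpowers_le.2 htC)
    intro s hs
    obtain ⟨m, rfl⟩ := hsurj s
    have hmH := hall m m.2
    rw [hH, ← SetLike.mem_coe, normal_mul] at hmH
    obtain ⟨a, ha, b, ⟨i, rfl⟩, e⟩ := hmH
    have e' : m = ⟨a, hat_le K ha⟩ * c ^ i := Subtype.ext (by simpa using e.symm)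
    rw [e', map_mul, map_zpow] at hs ⊢
    have h1 : π ⟨a, hat_le K ha⟩ ∈ Cq :=
      (Cq.mul_mem_cancel_right (zpow_mem htC i)).1 hs
    rw [hKdis _ ((mem_hat _).1 ha) h1, one_mul]
    exact zpow_mem (mem_zpowers _) i
  refine ⟨Cq, K, p, hp, hF, ?_, hKn, hKset, hKel, hmin⟩
  rw [hCcyc, Nat.card_zpowers, hto]
  exact hq

/-- The structure theorem. -/
theorem structure_theorem (h : Hyp N) :
    (∃ p : ℕ, p.Prime ∧ Cfsg.IsElementaryAbelian p (⊤ : Subgroup (N ⧸ center N))) ∨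
    (∃ (Q K : Subgroup (N ⧸ center N)) (p : ℕ), p.Prime ∧ Cfsg.IsFrobeniusComplement Q ∧
      (Nat.card Q).Prime ∧ K.Normal ∧ (K : Set (N ⧸ center N)) = Cfsg.frobeniusKernel Q ∧
      Cfsg.IsElementaryAbelian p K ∧
      ∀ S : Subgroup (N ⧸ center N), S ≤ K → S ≠ ⊥ →
        (∀ g : G, ∀ q ∈ S, conjQuot g q ∈ S) → K ≤ S) := by
  by_cases h2 : ∃ (p q : ℕ) (x y : G), p.Prime ∧ q.Prime ∧ p ≠ q ∧ NCp N p x ∧ NCp N q y
  · obtain ⟨p, q, x, y, hp, hq, hpq, hx, hy⟩ := h2
    obtain ⟨x', hx'⟩ := exists_abel h hp hq hpq hx hy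
    exact Or.inr (frobenius_of_abel h (le_center_of_two h hp hq hpq hx hy) hx')
  left
  obtain ⟨p, hp, hone⟩ : ∃ p : ℕ, p.Prime ∧ ∀ (r : ℕ) (v : G), r.Prime → NCp N r v → r = p := by
    by_cases h1 : ∃ (p : ℕ) (x : G), p.Prime ∧ NCp N p x
    · obtain ⟨p, x, hp, hx⟩ := h1
      exact ⟨p, hp, fun r v hr hv => by_contra fun hne => h2 ⟨r, p, v, x, hr, hp, hne, hv, hx⟩⟩
    · exact ⟨2, Nat.prime_two, fun r v hr hv => absurd ⟨r, v, hr, hv⟩ h1⟩
  obtain ⟨hc, hpw⟩ := elementary_of_one_prime h hp hone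
  refine ⟨p, hp, ⟨⟨?_⟩⟩, ?_⟩
  · rintro ⟨a, -⟩ ⟨b, -⟩
    obtain ⟨m, rfl⟩ := QuotientGroup.mk'_surjective (center N) a
    obtain ⟨n, rfl⟩ := QuotientGroup.mk'_surjective (center N) b
    refine Subtype.ext ?_
    show QuotientGroup.mk' (center N) m * QuotientGroup.mk' (center N) n =
      QuotientGroup.mk' (center N) n * QuotientGroup.mk' (center N) m
    rw [← commutatorElement_eq_one_iff_mul_comm, ← map_commutatorElement, mk_eq_one]
    simpa [commutatorElement_def] using hc m m.2 n n.2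
  · intro a _
    obtain ⟨m, rfl⟩ := QuotientGroup.mk'_surjective (center N) a
    rw [← map_pow, mk_eq_one, SubmonoidClass.coe_pow]
    exact hpw m m.2

end CfsgLib.MaxCentralizer
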