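import Cfsg.Agent.Lib.Struct77.MaxCentralizer.Frobenius

/-!
Groups all whose non-central elements have maximal centralizers.
-/

set_option autoImplicit false

namespace CfsgLib.MaxCentralizer

open Subgroup
open scoped Pointwise

universe u

/-- A Frobenius group with elementary abelian minimal normal kernel and complement of prime order
is minimal non-abelian. -/
theorem minimal_nonabelian {Q : Type u} [Group Q] [Finite Q] {C K : Subgroup Q} {p : ℕ}
    (hp : p.Prime) (hC : Cfsg.IsFrobeniusComplement C) (hq : (Nat.card C).Prime) (hKn : K.Normal)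
    (hKs : (K : Set Q) = Cfsg.frobeniusKernel C) (hKe : Cfsg.IsElementaryAbelian p K)
    (hmin : ∀ S : Subgroup Q, S ≤ K → S ≠ ⊥ → S.Normal → K ≤ S) :
    ¬ IsMulCommutative Q ∧ (∀ H : Subgroup Q, H ≠ ⊤ → IsMulCommutative H) ∧
      ∃ p q a : ℕ, p.Prime ∧ q.Prime ∧ p ≠ q ∧ Nat.card Q = p ^ a * q ∧
        ∀ P : Subgroup Q, Nat.card P = p ^ a → P.Normal := by
  have := hKn
  have hc := TwoFrobenius.isComplement_of_kernel hC hKs.symm
  have := Fact.mk hp
  have := Fact.mk hq
  have hKp : IsPGroup p K := fun k => ⟨1, Subtype.ext (by simpa using hKe.2 k k.2)⟩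
  obtain ⟨a, ha⟩ := hKp.exists_card_eq
  have hindex : K.index = Nat.card C := hc.symm.index_eq_card
  have hcard : Nat.card Q = p ^ a * Nat.card C := by rw [← ha, hc.card_mul]
  have hnc : ¬ IsMulCommutative Q := by
    intro hcomm
    obtain ⟨g, hg⟩ : ∃ g, g ∉ C := by
      by_contra hall
      push Not at hall
      exact hC.2.1 (eq_top_iff.2 fun g _ => hall g)
    apply hC.1
    rw [eq_bot_iff, ← hC.2.2 g hg]
    refine le_inf le_rfl fun c hc => Frobenius.mem_conj_smul_iff.2 ?_
    rw [hcomm.is_comm.comm g⁻¹ c, inv_mul_cancel_right]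
    exact hc
  have hpq : p ≠ Nat.card C := by
    intro e
    have hQp : IsPGroup p Q := IsPGroup.of_card (n := a + 1) (by rw [hcard, ← e, pow_succ])
    have := hQp.isNilpotent
    obtain ⟨g, hg, hgC⟩ := SetLike.exists_of_lt
      (Group.normalizerCondition_of_isNilpotent C (lt_top_iff_ne_top.2 hC.2.1))
    rw [Frobenius.normalizer_eq hC] at hg
    exact hgC hg
  have hQK : IsCyclic (Q ⧸ K) := isCyclic_of_prime_card (p := Nat.card C)
    (by rw [← index_eq_card, hindex])
  refine ⟨hnc, fun H hH => ?_, p, Nat.card C, a, hp, hq, hpq, hcard, fun P hP => ?_⟩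
  · by_cases hHK : H ≤ K
    · have hKc := hKe.1
      exact ⟨⟨fun x y => Subtype.ext (congrArg Subtype.val
        (hKc.is_comm.comm ⟨x, hHK x.2⟩ ⟨y, hHK y.2⟩) :)⟩⟩
    have htop : H ⊔ K = ⊤ := by
      have hdvd : (H ⊔ K).index ∣ K.index := index_dvd_of_le le_sup_right
      rw [hindex] at hdvd
      rcases (Nat.dvd_prime hq).1 hdvd with h1 | h1
      · exact index_eq_one.1 h1
      · exfalso
        apply hHK
        have heq : K = H ⊔ K := eq_of_le_of_card_ge le_sup_right (by
          refine le_of_eq (Nat.eq_of_mul_eq_mul_right hq.pos ?_)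
          calc Nat.card ↥(H ⊔ K : Subgroup Q) * Nat.card C
              = Nat.card ↥(H ⊔ K : Subgroup Q) * (H ⊔ K).index := by rw [h1]
            _ = Nat.card Q := card_mul_index _
            _ = Nat.card K * Nat.card C := hc.card_mul.symm)
        rw [heq]
        exact le_sup_left
    have hn : (H ⊓ K).Normal := by
      rw [← normalizer_eq_top_iff, eq_top_iff, ← htop, sup_le_iff]
      constructor
      · intro g hg
        refine CfsgLib.NilpotentMaximal.mem_normalizer_of_conj _ g fun v hv => ?_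
        exact ⟨H.mul_mem (H.mul_mem hg hv.1) (H.inv_mem hg), hKn.conj_mem v hv.2 g⟩
      · intro g hg
        refine CfsgLib.NilpotentMaximal.mem_normalizer_of_conj _ g fun v hv => ?_
        have e : g * v = v * g := congrArg Subtype.val (hKe.1.is_comm.comm ⟨g, hg⟩ ⟨v, hv.2⟩)
        rw [e, mul_inv_cancel_right]
        exact hv
    have hbot : H ⊓ K = ⊥ := by
      by_contra hne
      have hle := (hmin _ inf_le_right hne hn).trans inf_le_left
      exact hH (by rw [← htop, sup_eq_left.2 hle])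
    refine ⟨⟨fun x y => Subtype.ext ?_⟩⟩
    show (x : Q) * y = y * x
    have hm : (x : Q) * y * (x : Q)⁻¹ * (y : Q)⁻¹ ∈ H ⊓ K := by
      refine ⟨H.mul_mem (H.mul_mem (H.mul_mem x.2 y.2) (H.inv_mem x.2)) (H.inv_mem y.2), ?_⟩
      show (x : Q) * y * (x : Q)⁻¹ * (y : Q)⁻¹ ∈ K
      rw [← QuotientGroup.eq_one_iff]
      have hab : IsMulCommutative (Q ⧸ K) := IsCyclic.isMulCommutative
      simp only [QuotientGroup.mk_mul, QuotientGroup.mk_inv]
      rw [hab.is_comm.comm (x : Q ⧸ K) y]
      group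
    rw [hbot, mem_bot, mul_inv_eq_one, mul_inv_eq_iff_eq_mul] at hm
    exact hm
  · suffices P = K by rw [this]; exact hKn
    refine eq_of_le_of_card_ge (fun v hv => ?_) (by rw [hP, ha])
    rw [← QuotientGroup.eq_one_iff]
    have h1 : orderOf (v : Q ⧸ K) ∣ p ^ a :=
      (orderOf_map_dvd (QuotientGroup.mk' K) v).trans (hP ▸ orderOf_dvd_natCard P hv)
    have h2 : orderOf (v : Q ⧸ K) ∣ Nat.card C := by
      rw [← hindex, index_eq_card]; exact _root_.orderOf_dvd_natCard _
    exact orderOf_eq_one_iff.1 (Nat.eq_one_of_dvd_coprimes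
      (Nat.Coprime.pow_left a ((Nat.coprime_primes hp hq).2 hpq)) h1 h2)

variable {G : Type u} [Group G] [Finite G]

/-- The central quotient of the whole group. -/
noncomputable def topQuotEquiv :
    ((⊤ : Subgroup G) ⧸ center (⊤ : Subgroup G)) ≃* (G ⧸ center G) :=
  QuotientGroup.congr _ _ (topEquiv : (⊤ : Subgroup G) ≃* G) (by
    ext g
    constructor
    · rintro ⟨z, hz, rfl⟩
      rw [mem_center_iff]
      intro y
      exact congrArg Subtype.val (mem_center_iff.1 hz ⟨y, mem_top y⟩)
    · intro hg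
      exact ⟨⟨g, mem_top g⟩, mem_center_iff.2 fun y => Subtype.ext (mem_center_iff.1 hg y), rfl⟩)

/-- The case of the whole group. -/
theorem top_structure
    (h : ∀ x : G, x ∉ center G → IsCoatom (centralizer ({x} : Set G))) :
    (∃ p : ℕ, p.Prime ∧ Cfsg.IsElementaryAbelian p (⊤ : Subgroup (G ⧸ center G))) ∨
    (¬ IsMulCommutative (G ⧸ center G) ∧
      (∀ H : Subgroup (G ⧸ center G), H ≠ ⊤ → IsMulCommutative ↥H) ∧
      ∃ p q a : ℕ, p.Prime ∧ q.Prime ∧ p ≠ q ∧ Nat.card (G ⧸ center G) = p ^ a * q ∧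
        ∀ P : Subgroup (G ⧸ center G), Nat.card ↥P = p ^ a → P.Normal) := by
  have hH : Hyp (⊤ : Subgroup G) := fun x hx => h x fun hc => hx.2
    (mem_centralizer_iff.2 fun y _ => mem_center_iff.1 hc y)
  let e := topQuotEquiv (G := G)
  rcases structure_theorem hH with ⟨p, hp, hel⟩ | ⟨C, K, p, hp, hC, hq, hK, hKs, hKe, hmin⟩
  · refine Or.inl ⟨p, hp, ⟨⟨fun a b => Subtype.ext ?_⟩⟩, fun a _ => ?_⟩
    · apply e.symm.injective
      rw [coe_mul, coe_mul, map_mul, map_mul]
      exact congrArg Subtype.val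
        (hel.1.is_comm.comm ⟨e.symm a, mem_top _⟩ ⟨e.symm b, mem_top _⟩)
    · apply e.symm.injective
      rw [map_pow, map_one]
      exact hel.2 _ (mem_top _)
  right
  obtain ⟨h1, h2, p', q, a, hp', hq', hne, hcard, hn⟩ := minimal_nonabelian hp hC hq hK hKs hKe
    fun S hS hS1 hSn => hmin S hS hS1 fun g s hs => by
      obtain ⟨n, rfl⟩ := QuotientGroup.mk'_surjective _ s
      have e1 : MulAut.conjNormal g n =
          (⟨g, mem_top g⟩ : (⊤ : Subgroup G)) * n * (⟨g, mem_top g⟩ : (⊤ : Subgroup G))⁻¹ :=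
        Subtype.ext (MulAut.conjNormal_apply g n)
      rw [conjQuot_mk, e1, map_mul, map_mul, map_inv]
      exact hSn.conj_mem _ hs _
  refine ⟨fun hc => h1 ⟨⟨fun x y => e.injective ?_⟩⟩, fun H hH' => ?_, p', q, a, hp', hq', hne, ?_,
    fun P hP => ?_⟩
  · rw [map_mul, map_mul]; exact hc.is_comm.comm _ _
  · have := h2 (H.comap e.toMonoidHom) fun ht => hH' (by
      rw [← map_comap_eq_self_of_surjective (f := e.toMonoidHom) e.surjective H, ht]
      exact map_top_of_surjective e.toMonoidHom e.surjective)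
    refine ⟨⟨fun x y => Subtype.ext ?_⟩⟩
    have hx : e.symm (x : G ⧸ center G) ∈ H.comap e.toMonoidHom := by simp
    have hy : e.symm (y : G ⧸ center G) ∈ H.comap e.toMonoidHom := by simp
    apply e.symm.injective
    rw [coe_mul, coe_mul, map_mul, map_mul]
    exact congrArg Subtype.val (this.is_comm.comm ⟨_, hx⟩ ⟨_, hy⟩)
  · rw [← Nat.card_congr e.toEquiv, hcard]
  · have hPn := hn (P.comap e.toMonoidHom) (by
      rw [← hP, ← card_map_of_injective (f := e.toMonoidHom) e.injective,
        map_comap_eq_self_of_surjective (f := e.toMonoidHom) e.surjective])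
    have := hPn.map e.toMonoidHom e.surjective
    rwa [map_comap_eq_self_of_surjective (f := e.toMonoidHom) e.surjective] at this

end CfsgLib.MaxCentralizer
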